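import Cfsg.Agent.Lib.Recog.Icosian.Group

/-!
# The action of `2.J2` on the lines and its kernel
-/

set_option autoImplicit false
set_option maxRecDepth 20000

namespace CfsgLib.Recog.Icosian

open Quaternion Cfsg.Spor

attribute [local irreducible] unitAt repsAt smallAt qmul nrm lineOf permTab unitTab rootOf goodRoot

/-- the image of a line -/
theorem exists_image (f : twoJ2) (i : Fin 315) :
    ∃ a j, (((f : Equiv.Perm icoLeech) ⟨vev (root i), (root_minimal i).1⟩ : icoLeech) : W) = unitRoot a j := by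
  have hf : (f : Equiv.Perm icoLeech) ∈ genGroup := twoJ2_eq ▸ f.2
  obtain ⟨g, hg, hgx⟩ := exists_linIso hf
  refine exists_unitRoot (((f : Equiv.Perm icoLeech) ⟨_, (root_minimal i).1⟩).2) ?_
  rw [hgx]
  exact (hg.isometry _ _).trans (root_minimal i).2

/-- the map induced on the lines -/
noncomputable def lineMap (f : twoJ2) (i : Fin 315) : Fin 315 := (exists_image f i).choose_spec.choose

theorem lineMap_spec (f : twoJ2) (i : Fin 315) :
    ∃ a, (((f : Equiv.Perm icoLeech) ⟨vev (root i), (root_minimal i).1⟩ : icoLeech) : W) = unitRoot a (lineMap f i) :=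
  ⟨_, (exists_image f i).choose_spec.choose_spec⟩

theorem lineMap_eq (f : twoJ2) {i j : Fin 315} {a : Fin 120}
    (h : (((f : Equiv.Perm icoLeech) ⟨vev (root i), (root_minimal i).1⟩ : icoLeech) : W) = unitRoot a j) :
    lineMap f i = j := by
  obtain ⟨b, hb⟩ := lineMap_spec f i
  exact (congrArg Prod.snd (unitRoot_injective (a₁ := (b, lineMap f i)) (a₂ := (a, j)) (hb.symm.trans h)))

theorem lineMap_mul (f f' : twoJ2) (i : Fin 315) : lineMap (f * f') i = lineMap f (lineMap f' i) := by
  obtain ⟨a, ha⟩ := lineMap_spec f' i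
  obtain ⟨b, hb⟩ := lineMap_spec f (lineMap f' i)
  obtain ⟨g, hg, hgx⟩ := exists_linIso (twoJ2_eq ▸ f.2 : (f : Equiv.Perm icoLeech) ∈ genGroup)
  obtain ⟨w, hw⟩ := exists_unit_mul a b
  refine lineMap_eq _ (a := w) ?_
  rw [Subgroup.coe_mul, Equiv.Perm.mul_apply, hgx, ha, unitRoot, hg.smul]
  rw [hgx] at hb
  rw [show g (vev (root (lineMap f' i))) = unitRoot b (lineMap f (lineMap f' i)) from hb, unitRoot, lsmul_lsmul, hw]
  rfl

theorem lineMap_one (i : Fin 315) : lineMap 1 i = i := by
  obtain ⟨a, ha⟩ : ∃ a : Fin 120, qev (unitQ a) = 1 := ⟨⟨0, by norm_num⟩, by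
    rw [show unitQ ⟨0, by norm_num⟩ = qone by unfold unitQ; decide +kernel, qev_one]⟩
  refine lineMap_eq _ (a := a) ?_
  show vev (root i) = _
  rw [unitRoot, ha]
  funext k; simp [lsmul]

/-- the representation on the lines -/
noncomputable def lineHom : twoJ2 →* Equiv.Perm (Fin 315) where
  toFun f := ⟨lineMap f, lineMap f⁻¹, fun i => by rw [← lineMap_mul, inv_mul_cancel, lineMap_one],
    fun i => by rw [← lineMap_mul, mul_inv_cancel, lineMap_one]⟩
  map_one' := Equiv.ext lineMap_one
  map_mul' f f' := Equiv.ext (lineMap_mul f f')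

theorem lineHom_apply (f : twoJ2) (i : Fin 315) : lineHom f i = lineMap f i := rfl

/-- a generator, in the group -/
noncomputable def genElt (k : Fin 4) : twoJ2 := ⟨genPerm k, Subgroup.subset_closure (genPerm_isRefl k)⟩

theorem genElt_sq (k : Fin 4) : genElt k * genElt k = 1 :=
  Subtype.ext (Equiv.ext fun x => Subtype.ext (qrefl_qrefl (root_minimal _).2 _))

theorem lineHom_genElt (k : Fin 4) (i : Fin 315) : lineHom (genElt k) i = genFun k i :=
  lineMap_eq _ (a := genUnit k i) (genQrefl k i)

theorem genElt_closure : Subgroup.closure (Set.range genElt) = ⊤ := by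
  refine Subgroup.map_injective (f := twoJ2.subtype) Subtype.coe_injective ?_
  rw [MonoidHom.map_closure, ← MonoidHom.range_eq_map, Subgroup.range_subtype, ← Set.range_comp]
  exact twoJ2_eq.symm

theorem special_check : inLam basisOne = true ∧
    nrm (decV (lineList.getD 26 (0, 0, 0))).1 = (4, 0) ∧
    qmul (qconj (decV (lineList.getD 26 (0, 0, 0))).1) (decV (lineList.getD 26 (0, 0, 0))).2.1 = qi ∧
    qmul qone qone = qone := by
  decide +kernel

theorem lsmul_basisTwo_zero (a : ℍ[ℝ]) : lsmul a (vev basisTwo) 0 = 0 := by simp [lsmul, vev, basisTwo, qev_zero]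

/-- a real quaternion that commutes with `i` and `h` is real -/
theorem eq_coe_of_commute {t : ℍ[ℝ]} (h1 : t * qev qi = qev qi * t) (h2 : t * icoH = icoH * t) :
    t = ((t.re : ℝ) : ℍ[ℝ]) := by
  have j0 := congrArg QuaternionAlgebra.imJ h1
  have k0 := congrArg QuaternionAlgebra.imK h1
  simp [Quaternion.imJ_mul, Quaternion.imK_mul, qi, ev] at j0 k0
  have j1 := congrArg QuaternionAlgebra.imJ h2
  have k1 := congrArg QuaternionAlgebra.imK h2
  rw [← qev_qh] at j1 k1
  simp [Quaternion.imJ_mul, Quaternion.imK_mul, qh, ev] at j1 k1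
  ext <;> simp
  · linarith
  · linarith
  · linarith

/-- an element fixing every line is `1` or `-1` -/
theorem kernel_sign (f : twoJ2) (hf : lineHom f = 1) :
    (∀ x : icoLeech, (((f : Equiv.Perm icoLeech) x : icoLeech) : W) = x) ∨
      ∀ x : icoLeech, (((f : Equiv.Perm icoLeech) x : icoLeech) : W) = -(x : W) := by
  obtain ⟨g, hg, hgx⟩ := exists_linIso (twoJ2_eq ▸ f.2 : (f : Equiv.Perm icoLeech) ∈ genGroup)
  have hfix : ∀ x : W, x ∈ icoLeech → qip x x = 4 → ∃ a : ℍ[ℝ], g x = lsmul a x ∧ star a * a = 1 := by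
    intro x hx h4
    obtain ⟨b, j, e⟩ := exists_unitRoot hx h4
    obtain ⟨c, hc⟩ := lineMap_spec f j
    have hj : lineMap f j = j := by rw [← lineHom_apply, hf]; rfl
    rw [hj, hgx] at hc
    refine ⟨qev (unitQ b) * qev (unitQ c) * star (qev (unitQ b)), ?_, ?_⟩
    · rw [e, unitRoot, hg.smul, show g (vev (root j)) = unitRoot c j from hc, unitRoot, lsmul_lsmul, lsmul_lsmul,
        mul_assoc, (unit_star b).2.1, mul_one]
    · simp only [star_mul, star_star, mul_assoc]
      rw [← mul_assoc (star (qev (unitQ b))) (qev (unitQ b)), (unit_star b).2.1, one_mul,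
        ← mul_assoc (star (qev (unitQ c))), (unit_star c).2.1, one_mul, (unit_star b).2.2]
  have mem : ∀ v : V, inLam v = true → zadd (zadd (nrm v.1) (nrm v.2.1)) (nrm v.2.2) = (16, 0) →
      ∃ a : ℍ[ℝ], g (vev v) = lsmul a (vev v) ∧ star a * a = 1 := fun v hv hn =>
    hfix _ (mem_icoLeech_iff.mpr ⟨v, hv, rfl⟩) ((qip_self v).mpr hn)
  obtain ⟨a1, e1, u1⟩ := mem basisOne basis_mem.1 (by decide +kernel)
  obtain ⟨a2, e2, u2⟩ := mem basisTwo basis_mem.2.1 (by decide +kernel)
  obtain ⟨t, e3, u3⟩ := mem basisThree basis_mem.2.2 (by decide +kernel)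
  obtain ⟨a4, e4, -⟩ := mem (qzero, qadd qone qone, qzero) (by decide +kernel) (by decide +kernel)
  obtain ⟨a5, e5, -⟩ := mem (qadd qone qone, qzero, qzero) (by decide +kernel) (by decide +kernel)
  have ehb : qev qhb = star icoH := by rw [qhb, qev_qconj, qev_qh]
  have two : (1 : ℍ[ℝ]) + 1 = 2 := one_add_one_eq_two
  have cancel : ∀ {x y : ℍ[ℝ]}, x * 2 = y * 2 → x = y := fun {x y} h =>
    mul_right_cancel₀ (by rw [← two]; intro e; have := congrArg QuaternionAlgebra.re e; simp at this) h
  -- the relation of the vector (0, 2, 0)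
  have r4 : (vev (qzero, qadd qone qone, qzero)) = lsmul (star icoH) (vev basisTwo) - vev basisThree := by
    funext k
    fin_cases k <;> simp [vev, lsmul, basisTwo, basisThree, qev_zero, qev_qadd, qev_one, qev_qh,
      icoH_mul_star.1, two]
  have h4' : lsmul a4 (vev (qzero, qadd qone qone, qzero)) = lsmul (star icoH * a2) (vev basisTwo) - lsmul t (vev basisThree) := by
    rw [← e4, r4, hg.sub, hg.smul, e2, e3, lsmul_lsmul]
  have k1 : a4 * 2 = star icoH * a2 * icoH := by
    have := congrFun h4' 1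
    simpa [vev, lsmul, basisTwo, basisThree, qev_zero, qev_qadd, qev_one, qev_qh, two] using this
  have k2 : star icoH * a2 * icoH = t * 2 := by
    have := congrFun h4' 2
    simp [vev, lsmul, basisTwo, basisThree, qev_zero, qev_qadd, qev_one, qev_qh, two] at this
    exact sub_eq_zero.mp this.symm
  -- the relation of the vector (2, 0, 0)
  have r5 : vev (qadd qone qone, qzero, qzero) =
      lsmul 2 (vev basisOne) - vev (qzero, qadd qone qone, qzero) - lsmul (star icoH) (vev basisThree) := by
    funext k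
    fin_cases k <;> simp [vev, lsmul, basisOne, basisThree, qev_zero, qev_qadd, qev_one, ehb, two,
      Matrix.vecHead, Matrix.vecTail] <;> simp [two_mul, mul_two]
  have h5' : lsmul a5 (vev (qadd qone qone, qzero, qzero)) = lsmul (2 * a1) (vev basisOne) -
      lsmul a4 (vev (qzero, qadd qone qone, qzero)) - lsmul (star icoH * t) (vev basisThree) := by
    rw [← e5, r5, hg.sub, hg.sub, hg.smul, hg.smul, e1, e4, e3, lsmul_lsmul, lsmul_lsmul]
  have tt : ∀ z : ℍ[ℝ], (2 : ℍ[ℝ]) * z = z * 2 := fun z => by rw [two_mul, mul_two]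
  have k3 : a1 = t := by
    have := congrFun h5' 1
    simp [vev, lsmul, basisOne, basisThree, qev_zero, qev_qadd, qev_one, two] at this
    have h' : a1 * 2 = a4 * 2 := by rw [← tt]; exact sub_eq_zero.mp this.symm
    rw [cancel h']
    exact cancel (k1.trans k2)
  have k4 : t * star icoH = star icoH * t := by
    have := congrFun h5' 2
    simp [vev, lsmul, basisOne, basisThree, qev_zero, qev_qadd, qev_one, ehb, two] at this
    have h' := sub_eq_zero.mp this.symm
    rw [k3, tt, mul_assoc, tt] at h'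
    exact cancel (by simpa [mul_assoc] using h')
  have htH : t * icoH = icoH * t := by
    have hs : icoH = ((-(Real.sqrt 5) : ℝ) : ℍ[ℝ]) - star icoH := by
      rw [← qev_qh, ← qev_qconj]
      ext <;> simp [qh, qconj, ev, zneg, sqrt_five] <;> ring
    rw [hs, mul_sub, sub_mul, k4, Quaternion.coe_commutes]
  have k5 : a2 = t := by
    have h' : star icoH * a2 * icoH = star icoH * t * icoH := by
      rw [k2, mul_assoc (star icoH), htH, ← mul_assoc, icoH_mul_star.1, tt]
    have e := congrArg (fun z => icoH * z * star icoH) h'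
    simp only [mul_assoc] at e
    rw [icoH_mul_star.2, ← mul_assoc icoH (star icoH), icoH_mul_star.2, ← mul_assoc icoH (star icoH),
      icoH_mul_star.2, tt, tt] at e
    exact cancel (cancel e)
  -- now g is multiplication by t in each coordinate on the lattice
  have hdiag : ∀ x : W, x ∈ icoLeech → g x = fun k => x k * t := by
    intro x hx
    obtain ⟨a, b, c, -, -, -, e⟩ := exists_coords hx
    rw [e, hg.add, hg.add, hg.smul, hg.smul, hg.smul, e1, e2, e3, k3, k5]
    funext k
    fin_cases k <;> simp [vev, lsmul, basisOne, basisTwo, basisThree, qev_zero, qev_qadd, qev_one, qev_qh, ehb,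
      add_mul, mul_add, mul_assoc, k4, htH]
  have hlt : 26 < 315 := by norm_num
  obtain ⟨a6, e6, -⟩ := hfix _ (root_minimal ⟨26, hlt⟩).1 (root_minimal ⟨26, hlt⟩).2
  rw [hdiag _ (root_minimal ⟨26, hlt⟩).1] at e6
  set w := root ⟨26, hlt⟩ with hw
  have hwd : w = decV (lineList.getD 26 (0, 0, 0)) := by rw [hw, root]; unfold lineOf; rfl
  obtain ⟨wI, wI', -⟩ := coords_of_inLam (root_spec ⟨26, hlt⟩).1
  rw [← hw] at wI wI'
  have c0 : qev w.1 * t = a6 * qev w.1 := congrFun e6 0
  have c1 : qev w.2.1 * t = a6 * qev w.2.1 := congrFun e6 1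
  have hp : star (qev w.1) * qev w.1 = 1 := by
    have hn : nrm w.1 = (4, 0) := by rw [hwd]; exact special_check.2.1
    have := qev_mul_star w.1
    rw [hn, show ev ((4, 0) : ZT) / 4 = 1 by norm_num [ev], Quaternion.coe_one] at this
    rw [Quaternion.star_mul_self, ← Quaternion.self_mul_star, this]
  have hp' : qev w.1 * star (qev w.1) = 1 := by rw [Quaternion.self_mul_star, ← Quaternion.star_mul_self, hp]
  have hi : star (qev w.1) * qev w.2.1 = qev qi := by
    rw [← qev_qconj, ← qev_qmul (inI_qmul (inI_qconj wI) wI').1, hwd, special_check.2.2.1]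
  have ha6 : a6 = qev w.1 * t * star (qev w.1) := by rw [c0, mul_assoc, hp', mul_one]
  have hti : t * qev qi = qev qi * t := by
    rw [← hi, mul_assoc (star (qev w.1)), c1, ha6]
    simp only [← mul_assoc]
    rw [hp, one_mul]
  have hreal := eq_coe_of_commute hti htH
  have hre : t.re * t.re = 1 := by
    rw [hreal, Quaternion.star_coe, ← Quaternion.coe_mul, ← Quaternion.coe_one, Quaternion.coe_inj] at u3
    exact u3
  rcases mul_self_eq_one_iff.mp hre with h | h
  · left
    intro x
    rw [hgx, hdiag _ x.2, hreal, h, Quaternion.coe_one]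
    simp
  · right
    intro x
    rw [hgx, hdiag _ x.2, hreal, h]
    funext k
    simp

end CfsgLib.Recog.Icosian
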