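import Cfsg.Agent.Lib.Recog.Icosian.Checks

/-!
# Kernel checks: completeness of the table of small icosians
-/

set_option autoImplicit false
set_option maxRecDepth 100000
set_option maxHeartbeats 0

namespace CfsgLib.Recog.Icosian

/-- one seventh of the rows -/
def scanBlock (k : ℕ) : Bool := (((boxList.zip leafTab).drop (7 * k)).take 7).all fun e => scanB e.1 e.2

theorem scan_block0 : scanBlock 0 = true := by decide +kernel

theorem scan_block1 : scanBlock 1 = true := by decide +kernel

theorem scan_block2 : scanBlock 2 = true := by decide +kernel

theorem scan_block3 : scanBlock 3 = true := by decide +kernel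

theorem scan_block4 : scanBlock 4 = true := by decide +kernel

theorem scan_block5 : scanBlock 5 = true := by decide +kernel

theorem scan_block6 : scanBlock 6 = true := by decide +kernel

end CfsgLib.Recog.Icosian
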