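import Cfsg.Agent.Lib.Recog.Icosian.Checks

/-!
# Kernel checks: classes of the small icosians

One theorem per norm type, so that each kernel evaluation stays small.
-/

set_option autoImplicit false
set_option maxRecDepth 100000
set_option maxHeartbeats 0
set_option Elab.async false

namespace CfsgLib.Recog.Icosian

/-- The small-class check for one norm type. -/
def smallOk (t : ℕ) : Bool :=
  (List.range 16).all fun a => (List.range 16).all fun b =>
    (smallAt t a b).all fun c =>
      let q := deco c
      inI q && inLeft qhb (qsub q (cA a)) && inLeft qh (qsub q (cB b))

theorem smallOk_0 : smallOk 0 = true := by decide +kernel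

theorem smallOk_1 : smallOk 1 = true := by decide +kernel

theorem smallOk_2 : smallOk 2 = true := by decide +kernel

theorem smallOk_3 : smallOk 3 = true := by decide +kernel

theorem smallOk_4 : smallOk 4 = true := by decide +kernel

theorem smallOk_5 : smallOk 5 = true := by decide +kernel

theorem smallOk_6 : smallOk 6 = true := by decide +kernel

theorem smallOk_7 : smallOk 7 = true := by decide +kernel

theorem smallOk_8 : smallOk 8 = true := by decide +kernel

theorem reps_check : ((List.range 9).all fun t => (repsAt t).all fun c => inI (deco c)) = true := by
  decide +kernel

theorem small_check : ((List.range 9).all fun t => (List.range 16).all fun a => (List.range 16).all fun b =>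
    (smallAt t a b).all fun c =>
      let q := deco c
      inI q && inLeft qhb (qsub q (cA a)) && inLeft qh (qsub q (cB b))) = true ∧
    ((List.range 9).all fun t => (repsAt t).all fun c => inI (deco c)) = true := by
  refine ⟨List.all_eq_true.2 fun t ht => ?_, reps_check⟩
  change smallOk t = true
  have ht9 : t < 9 := List.mem_range.1 ht
  interval_cases t
  exacts [smallOk_0, smallOk_1, smallOk_2, smallOk_3, smallOk_4, smallOk_5, smallOk_6, smallOk_7, smallOk_8]

end CfsgLib.Recog.Icosian
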