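import Cfsg.Agent.Lib.Recog.Icosian.Checks

/-!
# Kernel checks: completeness of the list of lines
-/

set_option autoImplicit false
set_option maxRecDepth 100000
set_option maxHeartbeats 0

namespace CfsgLib.Recog.Icosian

def isLine (v : V) : Bool := lineList.any fun t => veq v (decV t)

def pairCheck (t0 t1 t2 : ℕ) (c0 a : ℕ) : Bool :=
  (List.range 16).all fun b1 => (smallAt t1 a b1).all fun c1 =>
    bif t0 == 0 && !((repsAt t1).any fun c => qeq (deco c) (deco c1)) then true
    else
      let s := qadd (deco c0) (deco c1)
      (List.range 16).all fun b =>
        bif inLeft qh (qadd s (cB b)) then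
          (smallAt t2 a b).all fun c2 =>
            bif t0 == 0 && t1 == 0 && !((repsAt t2).any fun c => qeq (deco c) (deco c2)) then true
            else isLine (deco c0, deco c1, deco c2)
        else true

theorem triple_check : ((List.range 9).all fun t0 => (repsAt t0).all fun c0 => (List.range 16).all fun a =>
    bif inLeft qhb (qsub (deco c0) (cA a)) then
      (List.range 9).all fun t1 => (List.range 9).all fun t2 =>
        bif zeq (zadd (zadd (tyAt t0) (tyAt t1)) (tyAt t2)) (16, 0) then pairCheck t0 t1 t2 c0 a else true
    else true) = true := by
  decide +kernel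

end CfsgLib.Recog.Icosian
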