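import Cfsg.Agent.Lib.Recog.Icosian.Data

/-!
# Kernel checks: enumeration of the minimal vectors of the icosian Leech lattice
-/

set_option autoImplicit false
set_option maxRecDepth 100000
set_option maxHeartbeats 0

namespace CfsgLib.Recog.Icosian

abbrev V := Q × Q × Q

def deco (c : ℕ) : Q :=
  (boxList.getD (c % 64) (0, 0), boxList.getD (c / 64 % 64) (0, 0), boxList.getD (c / 4096 % 64) (0, 0),
    boxList.getD (c / 262144) (0, 0))

def decV (t : ℕ × ℕ × ℕ) : V := (deco t.1, deco t.2.1, deco t.2.2)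

def zeq (x y : ZT) : Bool := x.1 == y.1 && x.2 == y.2
def qeq (p q : Q) : Bool := zeq p.1 q.1 && zeq p.2.1 q.2.1 && zeq p.2.2.1 q.2.2.1 && zeq p.2.2.2 q.2.2.2
def veq (v w : V) : Bool := qeq v.1 w.1 && qeq v.2.1 w.2.1 && qeq v.2.2 w.2.2

/-- the sum of the squares of the doubled coordinates -/
def nrm (q : Q) : ZT :=
  zadd (zadd (zmul q.1 q.1) (zmul q.2.1 q.2.1)) (zadd (zmul q.2.2.1 q.2.2.1) (zmul q.2.2.2 q.2.2.2))

def cA (i : ℕ) : Q := deco (classA.getD i 0)
def cB (i : ℕ) : Q := deco (classB.getD i 0)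
def unitAt (i : ℕ) : Q := deco (unitList.getD i 0)
def repsAt (t : ℕ) : List ℕ := repList.getD t []
def smallAt (t a b : ℕ) : List ℕ := ((smallTab.getD t []).getD a []).getD b []
def tyAt (t : ℕ) : ZT := tyList.getD t (0, 0)

/-- conjugate of `h` -/
def qhb : Q := qconj qh

def inLam (v : V) : Bool :=
  inI v.1 && inI v.2.1 && inI v.2.2 && inLeft qhb (qsub v.1 v.2.1) && inLeft qhb (qsub v.2.1 v.2.2) &&
    inLeft qh (qadd (qadd v.1 v.2.1) v.2.2)

def zsq (x : ZT) : ℤ := x.1 * x.1 + x.2 * x.2

def box00 : List ZT := [(0, 0), (-4, 0), (-2, -2), (-2, 0), (-2, 2), (0, -4), (0, -2), (0, 2), (0, 4), (2, -2), (2, 0), (2, 2), (4, 0)]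

def box01 : List ZT := [(-2, -3), (-2, -1), (-2, 1), (-2, 3), (0, -3), (0, -1), (0, 1), (0, 3), (2, -3), (2, -1), (2, 1), (2, 3)]

def box10 : List ZT := [(-3, -2), (-3, 0), (-3, 2), (-1, -2), (-1, 0), (-1, 2), (1, -2), (1, 0), (1, 2), (3, -2), (3, 0), (3, 2)]

def box11 : List ZT := [(-3, -1), (-3, 1), (-1, -3), (-1, -1), (-1, 1), (-1, 3), (1, -3), (1, -1), (1, 1), (1, 3), (3, -1), (3, 1)]

def parity (x : ZT) : List ZT :=
  bif x.1 % 2 == 0 then (bif x.2 % 2 == 0 then box00 else box01)
  else (bif x.2 % 2 == 0 then box10 else box11)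

theorem parity_check : (boxList.all fun d => (parity d).any (zeq d)) = true := by decide +kernel

/-- a record of the table of small icosians -/
def recOK (q : Q) (r : ℕ) : Bool :=
  let v := r % 4096
  let t := r / 4096 % 16
  let a := r / 65536 % 16
  let b := r / 1048576 % 16
  let p := r / 16777216 % 256
  let u := r / 4294967296 % 128
  let rp := r / 549755813888
  zeq q.2.2.1 (boxList.getD (v % 64) (0, 0)) && zeq q.2.2.2 (boxList.getD (v / 64) (0, 0)) &&
    zeq (nrm q) (tyAt t) && decide (t < 9) && decide (p < (smallAt t a b).length) &&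
    qeq q (deco ((smallAt t a b).getD p 0)) && decide (u < 120) && decide (rp < (repsAt t).length) &&
    qeq (qmul (unitAt u) q) (deco ((repsAt t).getD rp 0))

def leafOK (q : Q) (recs : List ℕ) : Bool :=
  let n := nrm q
  bif tyList.any (zeq n) then recs.any (recOK q) else tyAll.any (zeq n)

def scanD (a b c : ZT) (recs : List ℕ) : Bool :=
  (parity (zadd (zmul (1, -1) a) (zmul (0, 1) b))).all fun d =>
    bif decide (16 < zsq a + zsq b + zsq c + zsq d) then true else leafOK (a, b, c, d) recs

def scanB (a : ZT) (row : List (List ℕ)) : Bool :=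
  (boxList.zip row).all fun e =>
    bif decide (16 < zsq a + zsq e.1) then true
    else (parity (zadd (zmul (0, 1) a) (zmul (1, -1) e.1))).all fun c =>
      bif decide (16 < zsq a + zsq e.1 + zsq c) then true else scanD a e.1 c e.2

theorem box_check : ((List.range 9).all fun i => (List.range 9).all fun j =>
    decide (16 < zsq ((i : ℤ) - 4, (j : ℤ) - 4)) || boxList.any (zeq ((i : ℤ) - 4, (j : ℤ) - 4))) = true ∧
    boxList.length = 49 ∧ leafTab.length = 49 ∧ (leafTab.all fun r => r.length == 49) = true := by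
  decide +kernel

theorem type_check : (tyAll.all fun x => tyAll.all fun y =>
    bif tyAll.any (zeq (zsub (16, 0) (zadd x y))) then tyList.any (zeq x) && tyList.any (zeq y) else true) = true ∧
    (tyList.all fun x => tyAll.any (zeq x)) = true ∧ tyList.length = 9 ∧ tyAt 0 = (0, 0) ∧
    (List.range 9).all (fun i => (List.range 9).all fun j => i == j || !(zeq (tyAt i) (tyAt j))) = true ∧
    repsAt 0 = [0] ∧ deco 0 = qzero := by
  decide +kernel

theorem class_check : ((List.range 16).all fun i =>
    inI (cA i) && inI (cB i) &&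
      (List.range 16).all fun j => i == j || !(inLeft qhb (qsub (cA i) (cA j)))) = true := by
  decide +kernel

theorem unit_check : (unitList.length = 120 ∧ unitInv.length = 120 ∧ unitList.Nodup) ∧
    ((List.range 120).all fun i => inI (unitAt i) && decide (unitInv.getD i 0 < 120) &&
      qeq (qmul (unitAt (unitInv.getD i 0)) (unitAt i)) qone &&
      qeq (unitAt (unitInv.getD i 0)) (qconj (unitAt i))) = true := by
  decide +kernel

theorem line_check : lineList.length = 315 ∧ (lineList.all fun t =>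
    let v := decV t
    inLam v && zeq (zadd (zadd (nrm v.1) (nrm v.2.1)) (nrm v.2.2)) (16, 0)) = true := by
  decide +kernel

end CfsgLib.Recog.Icosian
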