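import Cfsg.Agent.Lib.Recog.Icosian.Lines

/-!
# The reflection group `2.J2` acting on the 315 lines
-/

set_option autoImplicit false
set_option maxRecDepth 20000

namespace CfsgLib.Recog.Icosian

open Quaternion Cfsg.Spor

attribute [local irreducible] unitAt repsAt smallAt qmul nrm lineOf permTab unitTab rootOf goodRoot

theorem actOK_all {k : ℕ} (hk : k < 4) : actOK k = true := by
  interval_cases k
  exacts [act_check0, act_check1, act_check2, act_check3]

/-- the index of the `k`-th generating line -/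
def genIdx (k : Fin 4) : Fin 315 :=
  ⟨rootOf k.1, by
    have h := actOK_all k.2
    simp only [actOK, Bool.and_eq_true, decide_eq_true_eq] at h
    exact h.1.1.1.1⟩

/-- the `k`-th generating permutation of the lines -/
def genFun (k : Fin 4) (i : Fin 315) : Fin 315 := ⟨(permTab k.1).getD i.1 0 % 315, Nat.mod_lt _ (by norm_num)⟩

/-- the unit in the action of the `k`-th generator -/
def genUnit (k : Fin 4) (i : Fin 315) : Fin 120 := ⟨(unitTab k.1).getD i.1 0 % 120, Nat.mod_lt _ (by norm_num)⟩

theorem genQrefl (k : Fin 4) (i : Fin 315) :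
    qrefl (vev (root (genIdx k))) (vev (root i)) = unitRoot (genUnit k i) (genFun k i) := by
  have h := actOK_all k.2
  simp only [actOK, Bool.and_eq_true, List.all_eq_true, decide_eq_true_eq, beq_iff_eq, veq_iff] at h
  obtain ⟨⟨⟨⟨-, hP⟩, hU⟩, -⟩, hall⟩ := h
  have hi : i.1 < lineList.length := by rw [line_check.1]; exact i.2
  have hlen : i.1 < (lineList.zip ((permTab k.1).zip (unitTab k.1))).length := by
    simp only [List.length_zip, hP, hU, line_check.1]; have := i.2; omega
  have hx := hall _ (List.getElem_mem hlen)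
  simp only [List.getElem_zip] at hx
  obtain ⟨⟨⟨⟨h1, h2⟩, h3⟩, h4⟩, h5⟩ := hx
  have hpi : (permTab k.1).getD i.1 0 = (permTab k.1)[i.1]'(by omega) := List.getD_eq_getElem _ _ _
  have hui : (unitTab k.1).getD i.1 0 = (unitTab k.1)[i.1]'(by omega) := List.getD_eq_getElem _ _ _
  have hroot : decV (lineList[i.1]) = root i := by
    simp only [root]; unfold lineOf; rw [List.getD_eq_getElem _ _ hi]
  have hw : lineOf ((permTab k.1)[i.1]'(by omega)) = root (genFun k i) := by
    simp only [root, genFun, hpi, Nat.mod_eq_of_lt h1]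
  have hu : deco (unitList.getD ((unitTab k.1)[i.1]'(by omega)) 0) = unitQ (genUnit k i) := by
    simp only [unitQ, genUnit, hui, Nat.mod_eq_of_lt h2]; unfold unitAt; rfl
  rw [hroot, hw, hu] at h5
  rw [hroot] at h3 h4
  obtain ⟨a, b, c⟩ := coords_of_inLam (root_spec i).1
  obtain ⟨a', b', c'⟩ := coords_of_inLam (root_spec (genIdx k)).1
  rw [unitRoot, show lsmul (qev (unitQ (genUnit k i))) (vev (root (genFun k i))) =
    vev (smulV (unitQ (genUnit k i)) (root (genFun k i))) from
      (vev_smulV (unit_star _).1 (coords_of_inLam (root_spec _).1)).symm]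
  unfold smulV
  rw [← h5]
  show _ = vev (reflV (root (genIdx k)) (root i))
  have hev : evenIp (root i) (root (genIdx k)) = true := by
    simp only [evenIp, Bool.and_eq_true]; exact ⟨h3, h4⟩
  have hs := qip_vev (root_spec i).1 (root_spec (genIdx k)).1 hev
  rw [qrefl_eq, hs]
  set g := root (genIdx k)
  have hI : inI (halfIp (root i) g) = true := h4
  funext t
  fin_cases t
  · show qev (root i).1 - qev (halfIp (root i) g) * qev g.1 = qev (qsub (root i).1 (qmul (halfIp (root i) g) g.1))
    rw [qev_qsub, qev_qmul (inI_qmul hI a').1]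
  · show qev (root i).2.1 - qev (halfIp (root i) g) * qev g.2.1 = qev (qsub (root i).2.1 (qmul (halfIp (root i) g) g.2.1))
    rw [qev_qsub, qev_qmul (inI_qmul hI b').1]
  · show qev (root i).2.2 - qev (halfIp (root i) g) * qev g.2.2 = qev (qsub (root i).2.2 (qmul (halfIp (root i) g) g.2.2))
    rw [qev_qsub, qev_qmul (inI_qmul hI c').1]

theorem genIdx_eq (k : Fin 4) : root (genIdx k) = lineOf (rootOf k.1) := by
  unfold root genIdx; rfl

theorem good_check : (List.range 4).all (fun k => goodRoot (lineOf (rootOf k))) = true := by decide +kernel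

theorem qrefl_gen_mem (k : Fin 4) {x : W} (hx : x ∈ icoLeech) : qrefl (vev (root (genIdx k))) x ∈ icoLeech := by
  have h := good_check
  simp only [List.all_eq_true, List.mem_range] at h
  refine qrefl_mem (root_spec _).1 ?_ hx
  rw [genIdx_eq]
  exact h k.1 k.2

/-- the reflection in the `k`-th generating line, as a permutation of the lattice -/
noncomputable def genPerm (k : Fin 4) : Equiv.Perm icoLeech where
  toFun x := ⟨qrefl (vev (root (genIdx k))) x, qrefl_gen_mem k x.2⟩
  invFun x := ⟨qrefl (vev (root (genIdx k))) x, qrefl_gen_mem k x.2⟩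
  left_inv x := Subtype.ext (qrefl_qrefl (root_minimal _).2 _)
  right_inv x := Subtype.ext (qrefl_qrefl (root_minimal _).2 _)

theorem genPerm_inv (k : Fin 4) : (genPerm k)⁻¹ = genPerm k := Equiv.ext fun _ => rfl

theorem genPerm_isRefl (k : Fin 4) : IsIcoReflection (genPerm k) :=
  ⟨⟨vev (root (genIdx k)), (root_minimal _).1⟩, (root_minimal _).2, fun _ => rfl⟩

/-- the subgroup generated by the four reflections -/
noncomputable def genGroup : Subgroup (Equiv.Perm icoLeech) := Subgroup.closure (Set.range genPerm)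

/-- the underlying map of a permutation is a linear isometry -/
def Extends (f : Equiv.Perm icoLeech) (g : W → W) : Prop :=
  IsLinIso g ∧ ∀ x : icoLeech, ((f x : icoLeech) : W) = g x

theorem exists_linIso {f : Equiv.Perm icoLeech} (hf : f ∈ genGroup) : ∃ g, Extends f g := by
  have key : (∃ g, Extends f g) ∧ ∃ g, Extends f⁻¹ g := by
    induction hf using Subgroup.closure_induction with
    | mem x hx =>
      obtain ⟨k, rfl⟩ := hx
      rw [genPerm_inv]
      exact ⟨⟨_, isLinIso_qrefl (root_minimal _).2, fun _ => rfl⟩, ⟨_, isLinIso_qrefl (root_minimal _).2, fun _ => rfl⟩⟩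
    | one => rw [inv_one]; exact ⟨⟨id, isLinIso_id, fun _ => rfl⟩, ⟨id, isLinIso_id, fun _ => rfl⟩⟩
    | mul x y _ _ ihx ihy =>
      obtain ⟨⟨g, hg, eg⟩, ⟨g', hg', eg'⟩⟩ := ihx
      obtain ⟨⟨k, hk, ek⟩, ⟨k', hk', ek'⟩⟩ := ihy
      refine ⟨⟨g ∘ k, hg.comp hk, fun a => ?_⟩, ⟨k' ∘ g', hk'.comp hg', fun a => ?_⟩⟩
      · rw [Equiv.Perm.mul_apply, eg, ek]; rfl
      · rw [_root_.mul_inv_rev, Equiv.Perm.mul_apply, ek', eg']; rfl
    | inv x _ ih => rw [inv_inv]; exact ⟨ih.2, ih.1⟩
  exact key.1

/-- a reflection in line `i` that lies in the generated group -/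
theorem exists_refl_perm : ∀ (n : ℕ) (hn : n < 315), ∃ f ∈ genGroup,
    (∀ x : icoLeech, ((f x : icoLeech) : W) = qrefl (vev (root ⟨n, hn⟩)) x) ∧
    ∃ g ∈ genGroup, f = g * genPerm 0 * g⁻¹ := by
  obtain ⟨hlen, h0, hall⟩ := tree_check
  simp only [List.all_eq_true, Bool.and_eq_true, decide_eq_true_eq, beq_iff_eq] at hall
  intro n
  induction n using Nat.strong_induction_on with
  | _ n ih =>
    intro hn
    rcases n with _ | n
    · have e : (⟨0, hn⟩ : Fin 315) = genIdx 0 := Fin.ext (by simp [genIdx, h0])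
      refine ⟨genPerm 0, Subgroup.subset_closure ⟨0, rfl⟩, fun x => by rw [e]; rfl, 1, one_mem _, by simp⟩
    · have hl : n < ((List.range 314).zip lineTree).length := by simp [hlen]; omega
      have h := hall _ (List.getElem_mem hl)
      simp only [List.getElem_zip, List.getElem_range] at h
      obtain ⟨⟨hx, hk⟩, he⟩ := h
      obtain ⟨f, hf, hfx, c, hc, hfc⟩ := ih _ (Nat.lt_succ_of_le hx) (by omega)
      set x := (lineTree[n]'(by omega)).1 with hxdef
      set k : Fin 4 := ⟨(lineTree[n]'(by omega)).2, hk⟩ with hkdef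
      have hfun : genFun k ⟨x, by omega⟩ = ⟨n + 1, hn⟩ := by
        refine Fin.ext ?_
        have hP : x < (permTab k.1).length := by
          have h := actOK_all k.2
          simp only [actOK, Bool.and_eq_true, beq_iff_eq] at h
          rw [h.1.1.1.2]; omega
        simp only [genFun]
        rw [List.getD_eq_getElem _ _ hP] at he ⊢
        rw [he]; exact Nat.mod_eq_of_lt hn
      have hgk : genPerm k ∈ genGroup := Subgroup.subset_closure ⟨k, rfl⟩
      refine ⟨genPerm k * f * (genPerm k)⁻¹, mul_mem (mul_mem hgk hf) (inv_mem hgk), fun y => ?_,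
        genPerm k * c, mul_mem hgk hc, by rw [hfc]; group⟩
      rw [genPerm_inv, Equiv.Perm.mul_apply, Equiv.Perm.mul_apply]
      show qrefl (vev (root (genIdx k))) (f (genPerm k y) : W) = _
      rw [hfx]
      show qrefl (vev (root (genIdx k))) (qrefl (vev (root ⟨x, _⟩)) (qrefl (vev (root (genIdx k))) y)) = _
      have hiso := isLinIso_qrefl (root_minimal (genIdx k)).2
      rw [← hiso.map_qrefl, qrefl_qrefl (root_minimal _).2, genQrefl, hfun, unitRoot, qrefl_unit (unit_star _).2.1]

theorem reflection_in_genGroup {f : Equiv.Perm icoLeech} (hf : IsIcoReflection f) :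
    f ∈ genGroup ∧ ∃ g ∈ genGroup, f = g * genPerm 0 * g⁻¹ := by
  obtain ⟨r, hr, hfx⟩ := hf
  obtain ⟨a, i, e⟩ := exists_unitRoot r.2 hr
  obtain ⟨f', hf', hfx', hc⟩ := exists_refl_perm i.1 i.2
  have : f = f' := Equiv.ext fun x => Subtype.ext (by
    rw [hfx, hfx', e, unitRoot, qrefl_unit (unit_star _).2.1])
  subst this
  exact ⟨hf', hc⟩

theorem twoJ2_eq : twoJ2 = genGroup := by
  refine le_antisymm ((Subgroup.closure_le _).mpr fun f hf => (reflection_in_genGroup hf).1)
    ((Subgroup.closure_le _).mpr ?_)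
  rintro _ ⟨k, rfl⟩
  exact Subgroup.subset_closure (genPerm_isRefl k)

end CfsgLib.Recog.Icosian
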