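import Cfsg.Agent.Lib.Recog.Icosian.Checks

/-!
# Kernel checks on the 315 lines and the four generating reflections
-/

set_option autoImplicit false
set_option maxRecDepth 100000
set_option maxHeartbeats 0

namespace CfsgLib.Recog.Icosian

/-- the coordinate of the first non-zero entry -/
def leadQ (v : V) : Q := bif qeq v.1 qzero then (bif qeq v.2.1 qzero then v.2.2 else v.2.1) else v.1

def isRep (q : Q) : Bool := (List.range 9).any fun t => (repsAt t).any fun c => qeq (deco c) q

theorem normalised_check : (lineList.all fun t => !(qeq (leadQ (decV t)) qzero) && isRep (leadQ (decV t))) = true ∧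
    lineList.Nodup := by
  decide +kernel

theorem code_check : (lineList.all fun t =>
    decide (t.1 < 64 ^ 4) && decide (t.2.1 < 64 ^ 4) && decide (t.2.2 < 64 ^ 4) &&
      [t.1, t.2.1, t.2.2].all fun c => decide (c % 64 < 49) && decide (c / 64 % 64 < 49) &&
        decide (c / 4096 % 64 < 49) && decide (c / 262144 < 49)) = true ∧
    (unitList.all fun c => decide (c % 64 < 49) && decide (c / 64 % 64 < 49) &&
        decide (c / 4096 % 64 < 49) && decide (c / 262144 < 49)) = true ∧ boxList.Nodup := by
  decide +kernel

theorem rep_orbit_check : ((List.range 9).all fun t => (repsAt t).all fun c =>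
    qeq (deco c) qzero || (List.range 120).all fun u =>
      (repsAt t).all fun c' => qeq (unitAt u) qone || !(qeq (qmul (unitAt u) (deco c)) (deco c'))) = true ∧
    ((List.range 9).all fun t => (repsAt t).all fun c => zeq (nrm (deco c)) (tyAt t)) = true := by
  decide +kernel

/-- the image of a vector under the reflection in `r` -/
def reflV (r v : V) : V :=
  let s := qhalf (qadd (qadd (qmul v.1 (qconj r.1)) (qmul v.2.1 (qconj r.2.1))) (qmul v.2.2 (qconj r.2.2)))
  (qsub v.1 (qmul s r.1), qsub v.2.1 (qmul s r.2.1), qsub v.2.2 (qmul s r.2.2))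

def lineOf (k : ℕ) : V := decV (lineList.getD k (0, 0, 0))

def permTab (k : ℕ) : List ℕ :=
  bif k == 0 then permTab0 else bif k == 1 then permTab1 else bif k == 2 then permTab2 else permTab3

def unitTab (k : ℕ) : List ℕ :=
  bif k == 0 then unitTab0 else bif k == 1 then unitTab1 else bif k == 2 then unitTab2 else unitTab3

def rootOf (k : ℕ) : ℕ := genLines.getD k 0

/-- row `k` of the action of the generators -/
def actOK (k : ℕ) : Bool :=
  let r := lineOf (rootOf k)
  decide (rootOf k < 315) && ((permTab k).length == 315) && ((unitTab k).length == 315) &&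
  qeven (qadd (qadd (qmul qone (qconj r.1)) (qmul qone (qconj r.2.1))) (qmul (qconj qh) (qconj r.2.2))) &&
  (lineList.zip ((permTab k).zip (unitTab k))).all fun e =>
    let v := decV e.1
    let s := qadd (qadd (qmul v.1 (qconj r.1)) (qmul v.2.1 (qconj r.2.1))) (qmul v.2.2 (qconj r.2.2))
    let u := deco (unitList.getD e.2.2 0)
    let w := lineOf e.2.1
    decide (e.2.1 < 315) && decide (e.2.2 < 120) && qeven s && inI (qhalf s) &&
      veq (reflV r v) (qmul u w.1, qmul u w.2.1, qmul u w.2.2)

theorem act_check0 : actOK 0 = true := by decide +kernel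
theorem act_check1 : actOK 1 = true := by decide +kernel
theorem act_check2 : actOK 2 = true := by decide +kernel
theorem act_check3 : actOK 3 = true := by decide +kernel

theorem tree_check : lineTree.length = 314 ∧ rootOf 0 = 0 ∧ ((List.range 314).zip lineTree).all (fun e =>
    decide (e.2.1 ≤ e.1) && decide (e.2.2 < 4) && (permTab e.2.2).getD e.2.1 400 == e.1 + 1) = true := by
  decide +kernel

end CfsgLib.Recog.Icosian
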