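import Cfsg.Agent.Lib.Recog.Icosian.Reflection
import Cfsg.Agent.Lib.Recog.Icosian.LineChecks

/-!
# The 315 reflections and the group they generate
-/

set_option autoImplicit false
set_option maxRecDepth 20000

namespace CfsgLib.Recog.Icosian

open Quaternion Cfsg.Spor

attribute [local irreducible] unitAt repsAt smallAt qmul nrm

theorem lineOf_mem (i : Fin 315) : lineList.getD i.1 (0, 0, 0) ∈ lineList := by
  rw [List.getD_eq_getElem _ _ (by rw [line_check.1]; exact i.2)]
  exact List.getElem_mem _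

/-- the `i`-th line -/
def root (i : Fin 315) : V := lineOf i.1

/-- the `a`-th unit -/
def unitQ (a : Fin 120) : Q := unitAt a.1

theorem root_spec (i : Fin 315) : inLam (root i) = true ∧
    zadd (zadd (nrm (root i).1) (nrm (root i).2.1)) (nrm (root i).2.2) = (16, 0) := by
  have h := line_check.2
  simp only [List.all_eq_true, Bool.and_eq_true, zeq_iff] at h
  exact h _ (lineOf_mem i)

theorem root_minimal (i : Fin 315) : vev (root i) ∈ icoLeech ∧ qip (vev (root i)) (vev (root i)) = 4 :=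
  ⟨mem_icoLeech_iff.mpr ⟨_, (root_spec i).1, rfl⟩, (qip_self _).mpr (root_spec i).2⟩

theorem unit_star (a : Fin 120) : inI (unitQ a) = true ∧ star (qev (unitQ a)) * qev (unitQ a) = 1 ∧
    qev (unitQ a) * star (qev (unitQ a)) = 1 := by
  obtain ⟨h1, h2, -, h4, h5⟩ := unit_data a.2
  refine ⟨h1, h4, ?_⟩
  obtain ⟨-, -, -, h4', -⟩ := unit_data h2
  rwa [h5, star_star] at h4'

/-- the multiple of a line by a unit -/
noncomputable def unitRoot (a : Fin 120) (i : Fin 315) : W := lsmul (qev (unitQ a)) (vev (root i))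

theorem unitRoot_minimal (a : Fin 120) (i : Fin 315) :
    unitRoot a i ∈ icoLeech ∧ qip (unitRoot a i) (unitRoot a i) = 4 :=
  ⟨smul_mem_icoLeech (mem_of_inI (unit_star a).1) (root_minimal i).1,
    qip_smul_unit (unit_star a).2.2 (root_minimal i).2⟩

theorem qev_qmul_unit {a : ℕ} (ha : a < 120) {q : Q} (hq : inI q = true) :
    qev (qmul (unitAt a) q) = qev (unitAt a) * qev q :=
  qev_qmul (inI_qmul (unit_data ha).1 hq).1

/-- every minimal vector is a unit multiple of one of the lines -/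
theorem exists_unitRoot {f : W} (hf : f ∈ icoLeech) (h4 : qip f f = 4) : ∃ a i, f = unitRoot a i := by
  obtain ⟨⟨p, q, r⟩, hv, rfl⟩ := mem_icoLeech_iff.mp hf
  have hn := (qip_self _).mp h4
  obtain ⟨hp, hq, hr⟩ := coords_of_inLam hv
  obtain ⟨⟨bp, tp⟩, ⟨bq, tq⟩, ⟨br, tr⟩⟩ := types_of_sum hp hq hr hn
  obtain ⟨a, ha, hlead⟩ : ∃ a < 120, (p ≠ qzero → ∃ t < 9, ∃ c ∈ repsAt t, deco c = qmul (unitAt a) p) ∧
      (p = qzero → q ≠ qzero → ∃ t < 9, ∃ c ∈ repsAt t, deco c = qmul (unitAt a) q) ∧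
      (p = qzero → q = qzero → ∃ t < 9, ∃ c ∈ repsAt t, deco c = qmul (unitAt a) r) := by
    by_cases h0 : p = qzero
    · by_cases h1 : q = qzero
      · obtain ⟨t, ht, _, -, _, -, _, -, -, -, u, hu, c, hc, e⟩ := small_data hr br tr
        exact ⟨u, hu, fun h => absurd h0 h, fun _ h => absurd h1 h, fun _ _ => ⟨t, ht, c, hc, e.symm⟩⟩
      · obtain ⟨t, ht, _, -, _, -, _, -, -, -, u, hu, c, hc, e⟩ := small_data hq bq tq
        exact ⟨u, hu, fun h => absurd h0 h, fun _ _ => ⟨t, ht, c, hc, e.symm⟩, fun _ h => absurd h h1⟩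
    · obtain ⟨t, ht, _, -, _, -, _, -, -, -, u, hu, c, hc, e⟩ := small_data hp bp tp
      exact ⟨u, hu, fun _ => ⟨t, ht, c, hc, e.symm⟩, fun h => absurd h h0, fun h => absurd h h0⟩
  obtain ⟨hu1, hu2, hu3, hu4, hu5⟩ := unit_data ha
  have hcomp : vev (smulV (unitAt a) (p, q, r)) = lsmul (qev (unitAt a)) (vev (p, q, r)) :=
    vev_smulV hu1 ⟨hp, hq, hr⟩
  have hw : inLam (smulV (unitAt a) (p, q, r)) = true := by
    obtain ⟨w, hw, e⟩ := mem_icoLeech_iff.mp (hcomp ▸ smul_mem_icoLeech (mem_of_inI hu1)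
      (mem_icoLeech_iff.mpr ⟨_, hv, rfl⟩) : vev (smulV (unitAt a) (p, q, r)) ∈ icoLeech)
    rw [← vev_injective e]; exact hw
  have hn' : zadd (zadd (nrm (qmul (unitAt a) p)) (nrm (qmul (unitAt a) q))) (nrm (qmul (unitAt a) r)) = (16, 0) := by
    have e : qip (vev (smulV (unitAt a) (p, q, r))) (vev (smulV (unitAt a) (p, q, r))) = 4 := by
      rw [hcomp]
      exact qip_smul_unit (unit_star ⟨a, ha⟩).2.2 h4
    exact (qip_self _).mp e
  have hz : ∀ x, inI x = true → (qmul (unitAt a) x = qzero ↔ x = qzero) := fun x hx => by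
    rw [← qev_injective.eq_iff, ← qev_injective.eq_iff (a := x), qev_qmul_unit ha hx, qev_zero]
    refine ⟨fun h => ?_, fun h => by rw [h, mul_zero]⟩
    rw [← one_mul (qev x), ← hu4, mul_assoc, h, mul_zero]
  have hrep : ∀ t < 9, ∀ c ∈ repsAt t, nrm (deco c) = tyAt t := by
    have h := rep_orbit_check.2
    simp only [List.all_eq_true, List.mem_range, zeq_iff] at h
    exact h
  have hline := isLine_of_normalised hw hn'
    (fun h => by
      obtain ⟨t, ht, c, hc, e⟩ := hlead.1 (fun e0 => h ((hz p hp).mpr e0))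
      exact ⟨t, ht, c, hc, e, e ▸ hrep t ht c hc⟩)
    (fun h h' => by
      obtain ⟨t, ht, c, hc, e⟩ := hlead.2.1 ((hz p hp).mp h) (fun e0 => h' ((hz q hq).mpr e0))
      exact ⟨t, ht, c, hc, e, e ▸ hrep t ht c hc⟩)
    (fun h h' => by
      obtain ⟨t, ht, c, hc, e⟩ := hlead.2.2 ((hz p hp).mp h) ((hz q hq).mp h')
      exact ⟨t, ht, c, hc, e, e ▸ hrep t ht c hc⟩)
  simp only [isLine, List.any_eq_true, veq_iff] at hline
  obtain ⟨t, ht, he⟩ := hline
  obtain ⟨i, hi, rfl⟩ := List.getElem_of_mem ht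
  refine ⟨⟨_, hu2⟩, ⟨i, line_check.1 ▸ hi⟩, ?_⟩
  have hroot : vev (root ⟨i, line_check.1 ▸ hi⟩) = lsmul (qev (unitAt a)) (vev (p, q, r)) := by
    rw [← hcomp]
    show vev (decV (lineList.getD i (0, 0, 0))) = _
    rw [List.getD_eq_getElem _ _ hi, ← he]
    rfl
  show vev (p, q, r) = lsmul (qev (unitAt (unitInv.getD a 0))) _
  rw [hroot, lsmul_lsmul, hu3]
  funext k
  simp [lsmul]

theorem boxIndex {i j : ℕ} (hi : i < 49) (hj : j < 49) (h : boxList.getD i (0, 0) = boxList.getD j (0, 0)) : i = j := by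
  rw [List.getD_eq_getElem _ _ (by rw [box_check.2.1]; exact hi),
    List.getD_eq_getElem _ _ (by rw [box_check.2.1]; exact hj)] at h
  exact (code_check.2.2.getElem_inj_iff).mp h

theorem deco_injective {c d : ℕ} (hc : c % 64 < 49 ∧ c / 64 % 64 < 49 ∧ c / 4096 % 64 < 49 ∧ c / 262144 < 49)
    (hd : d % 64 < 49 ∧ d / 64 % 64 < 49 ∧ d / 4096 % 64 < 49 ∧ d / 262144 < 49) (h : deco c = deco d) : c = d := by
  simp only [deco, Prod.mk.injEq] at h
  have := boxIndex hc.1 hd.1 h.1
  have := boxIndex hc.2.1 hd.2.1 h.2.1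
  have := boxIndex hc.2.2.1 hd.2.2.1 h.2.2.1
  have := boxIndex hc.2.2.2 hd.2.2.2 h.2.2.2
  omega

theorem root_injective : Function.Injective root := by
  intro i j h
  have hc := code_check.1
  simp only [List.all_eq_true, Bool.and_eq_true, decide_eq_true_eq, List.mem_cons, List.not_mem_nil, or_false] at hc
  obtain ⟨-, hci⟩ := hc _ (lineOf_mem i)
  obtain ⟨-, hcj⟩ := hc _ (lineOf_mem j)
  have b : ∀ {c : ℕ}, ((c % 64 < 49 ∧ c / 64 % 64 < 49) ∧ c / 4096 % 64 < 49) ∧ c / 262144 < 49 →
      c % 64 < 49 ∧ c / 64 % 64 < 49 ∧ c / 4096 % 64 < 49 ∧ c / 262144 < 49 := fun h => ⟨h.1.1.1, h.1.1.2, h.1.2, h.2⟩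
  simp only [root, lineOf, decV, Prod.mk.injEq] at h
  have e : lineList.getD i.1 (0, 0, 0) = lineList.getD j.1 (0, 0, 0) :=
    Prod.ext (deco_injective (b (hci _ (Or.inl rfl))) (b (hcj _ (Or.inl rfl))) h.1)
      (Prod.ext (deco_injective (b (hci _ (Or.inr (Or.inl rfl)))) (b (hcj _ (Or.inr (Or.inl rfl)))) h.2.1)
        (deco_injective (b (hci _ (Or.inr (Or.inr rfl)))) (b (hcj _ (Or.inr (Or.inr rfl)))) h.2.2))
  rw [List.getD_eq_getElem _ _ (by rw [line_check.1]; exact i.2),
    List.getD_eq_getElem _ _ (by rw [line_check.1]; exact j.2)] at e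
  exact Fin.ext ((normalised_check.2.getElem_inj_iff).mp e)

theorem unitQ_injective : Function.Injective unitQ := by
  intro a b h
  have hc := code_check.2.1
  simp only [List.all_eq_true, Bool.and_eq_true, decide_eq_true_eq] at hc
  have hla : a.1 < unitList.length := by rw [unit_check.1.1]; exact a.2
  have hlb : b.1 < unitList.length := by rw [unit_check.1.1]; exact b.2
  simp only [unitQ, unitAt, List.getD_eq_getElem _ _ hla, List.getD_eq_getElem _ _ hlb] at h
  have c1 := hc _ (List.getElem_mem hla)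
  have c2 := hc _ (List.getElem_mem hlb)
  exact Fin.ext ((unit_check.1.2.2.getElem_inj_iff).mp
    (deco_injective ⟨c1.1.1.1, c1.1.1.2, c1.1.2, c1.2⟩ ⟨c2.1.1.1, c2.1.1.2, c2.1.2, c2.2⟩ h))

theorem isRep_iff {q : Q} : isRep q = true ↔ ∃ t < 9, ∃ c ∈ repsAt t, deco c = q := by
  simp [isRep, List.any_eq_true, qeq_iff]

/-- two lines differ -/
theorem root_unique {a : Fin 120} {i j : Fin 315} (h : lsmul (qev (unitQ a)) (vev (root i)) = vev (root j)) :
    qev (unitQ a) = 1 ∧ i = j := by
  obtain ⟨hi1, hi2, hi3⟩ := coords_of_inLam (root_spec i).1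
  have hh : smulV (unitQ a) (root i) = root j :=
    vev_injective (by rw [vev_smulV (unit_star a).1 ⟨hi1, hi2, hi3⟩]; exact h)
  have hz : ∀ x, inI x = true → (qmul (unitQ a) x = qzero ↔ x = qzero) := fun x hx => by
    rw [← qev_injective.eq_iff, ← qev_injective.eq_iff (a := x), unitQ, qev_qmul_unit a.2 hx, qev_zero]
    refine ⟨fun e => ?_, fun e => by rw [e, mul_zero]⟩
    rw [← one_mul (qev x), ← (unit_star a).2.1, mul_assoc]
    show _ * (qev (unitAt a.1) * qev x) = 0
    rw [e, mul_zero]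
  have hlead : leadQ (root j) = qmul (unitQ a) (leadQ (root i)) := by
    rw [← hh]
    have b1 : qeq (qmul (unitQ a) (root i).1) qzero = qeq (root i).1 qzero := by
      rw [Bool.eq_iff_iff, qeq_iff, qeq_iff, hz _ hi1]
    have b2 : qeq (qmul (unitQ a) (root i).2.1) qzero = qeq (root i).2.1 qzero := by
      rw [Bool.eq_iff_iff, qeq_iff, qeq_iff, hz _ hi2]
    simp only [leadQ, smulV, b1, b2]
    cases qeq (root i).1 qzero <;> cases qeq (root i).2.1 qzero <;> rfl
  have hn := normalised_check.1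
  simp only [List.all_eq_true, Bool.and_eq_true, Bool.not_eq_true', isRep_iff] at hn
  obtain ⟨hne, t, ht, c, hc, ec⟩ := hn _ (lineOf_mem i)
  obtain ⟨-, t', ht', c', hc', ec'⟩ := hn _ (lineOf_mem j)
  have hro := rep_orbit_check.1
  simp only [List.all_eq_true, List.mem_range, Bool.or_eq_true] at hro
  have h1 : qev (unitQ a) = 1 := by
    rcases hro t ht c hc with h0 | h0
    · rw [ec] at h0
      rw [show leadQ (decV (lineList.getD i.1 (0, 0, 0))) = leadQ (root i) from rfl] at hne h0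
      rw [h0] at hne; exact absurd hne (by simp)
    · have e2 : qmul (unitQ a) (deco c) = deco c' := by rw [ec, ec']; exact hlead.symm
      have htt : t' = t := by
        have hrep := rep_orbit_check.2
        simp only [List.all_eq_true, List.mem_range, zeq_iff] at hrep
        have hcI : inI (deco c) = true := by
          have := small_check.2
          simp only [List.all_eq_true, List.mem_range] at this
          exact this t ht c hc
        have hnrm : nrm (qmul (unitQ a) (deco c)) = nrm (deco c) := by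
          refine ev_injective ?_
          have e3 := qev_mul_star (qmul (unitQ a) (deco c))
          rw [show qev (qmul (unitQ a) (deco c)) = qev (unitQ a) * qev (deco c) from qev_qmul_unit a.2 hcI,
            star_mul, mul_assoc, ← mul_assoc (qev (deco c)), qev_mul_star, Quaternion.coe_commutes, ← mul_assoc,
            (unit_star a).2.2, one_mul, Quaternion.coe_inj] at e3
          linarith
        exact tyAt_injective ht' ht (by rw [← hrep t' ht' c' hc', ← e2, hnrm, hrep t ht c hc])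
      subst htt
      rcases h0 a.1 a.2 c' hc' with h3 | h3
      · rw [show unitQ a = qone from qeq_iff.mp h3, qev_one]
      · rw [show qmul (unitAt a.1) (deco c) = deco c' from e2, qeq_iff.mpr rfl] at h3; simp at h3
  refine ⟨h1, root_injective (vev_injective ?_)⟩
  rw [← h, h1]
  funext k
  simp [lsmul]

theorem norm_one_check : tyAt 1 = (4, 0) ∧ ((List.range 16).all fun a => (List.range 16).all fun b =>
    (smallAt 1 a b).all fun c => unitList.contains c) = true := by
  decide +kernel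

theorem exists_unit_mul (c a : Fin 120) : ∃ w : Fin 120, qev (unitQ c) * qev (unitQ a) = qev (unitQ w) := by
  obtain ⟨hc1, hc2, hc3⟩ := unit_star c
  obtain ⟨ha1, ha2, ha3⟩ := unit_star a
  obtain ⟨hev, hI⟩ := inI_qmul hc1 ha1
  have e := qev_qmul hev
  have hn : nrm (qmul (unitQ c) (unitQ a)) = (4, 0) := by
    refine ev_injective ?_
    have e3 := qev_mul_star (qmul (unitQ c) (unitQ a))
    rw [e, star_mul, mul_assoc, ← mul_assoc (qev (unitQ a)), ha3, one_mul, hc3, ← Quaternion.coe_one,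
      Quaternion.coe_inj] at e3
    rw [show ev ((4, 0) : ZT) = 4 by simp [ev]]
    linarith
  obtain ⟨t, ht, a', ha', b', hb', k, hk, ek, hnt, -⟩ := small_data hI (by rw [hn]; norm_num)
    (by
      have hlen : 1 < tyList.length := by rw [type_check.2.2.1]; norm_num
      rw [hn, ← norm_one_check.1, tyAt, List.getD_eq_getElem _ _ hlen]
      exact List.getElem_mem hlen)
  have : t = 1 := tyAt_injective ht (by norm_num) (by rw [← hnt, hn, norm_one_check.1])
  subst this
  have hc := norm_one_check.2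
  simp only [List.all_eq_true, List.mem_range, List.contains_iff_mem] at hc
  obtain ⟨w, hw, ew⟩ := List.getElem_of_mem (hc a' ha' b' hb' k hk)
  refine ⟨⟨w, unit_check.1.1 ▸ hw⟩, ?_⟩
  rw [← e, ← ek, ← ew]
  simp only [unitQ]
  unfold unitAt
  rw [List.getD_eq_getElem _ _ hw]

theorem unitRoot_injective : Function.Injective fun p : Fin 120 × Fin 315 => unitRoot p.1 p.2 := by
  rintro ⟨a, i⟩ ⟨b, j⟩ h
  simp only [unitRoot] at h
  obtain ⟨hb1, hb2, hb3, -, hb5⟩ := unit_data b.2
  obtain ⟨c, hc⟩ : ∃ c : Fin 120, qev (unitQ c) = star (qev (unitQ b)) := ⟨⟨_, hb2⟩, hb5⟩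
  obtain ⟨w, hw⟩ := exists_unit_mul c a
  have h' : lsmul (qev (unitQ w)) (vev (root i)) = vev (root j) := by
    rw [← hw, ← lsmul_lsmul, h, lsmul_lsmul, hc, (unit_star b).2.1]
    funext k; simp [lsmul]
  obtain ⟨h1, rfl⟩ := root_unique h'
  refine Prod.ext (unitQ_injective (qev_injective ?_)) rfl
  rw [← hw, hc] at h1
  calc qev (unitQ a) = qev (unitQ b) * (star (qev (unitQ b)) * qev (unitQ a)) := by
        rw [← mul_assoc, (unit_star b).2.2, one_mul]
    _ = qev (unitQ b) := by rw [h1, mul_one]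

end CfsgLib.Recog.Icosian
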