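import Mathlib
import Cfsg.Prelude.Def_Spor_J2

/-!
# An integral model of the icosian ring

An icosian is stored through its doubled coordinates, four numbers `a + b * tau` with `tau ^ 2 = tau + 1`.
-/

set_option autoImplicit false
set_option maxRecDepth 20000

namespace CfsgLib.Recog.Icosian

open Quaternion Cfsg.Spor

/-- `a + b * tau` -/
abbrev ZT := ℤ × ℤ

/-- doubled quaternion coordinates -/
abbrev Q := ZT × ZT × ZT × ZT

def zadd (x y : ZT) : ZT := (x.1 + y.1, x.2 + y.2)
def zneg (x : ZT) : ZT := (-x.1, -x.2)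
def zsub (x y : ZT) : ZT := (x.1 - y.1, x.2 - y.2)
def zmul (x y : ZT) : ZT := (x.1 * y.1 + x.2 * y.2, x.1 * y.2 + x.2 * y.1 + x.2 * y.2)
def zhalf (x : ZT) : ZT := (x.1 / 2, x.2 / 2)
def zeven (x : ZT) : Bool := x.1 % 2 == 0 && x.2 % 2 == 0

noncomputable def ev (x : ZT) : ℝ := x.1 + x.2 * tau

theorem tau_sq : tau * tau = tau + 1 := by
  have h : Real.sqrt 5 * Real.sqrt 5 = 5 := Real.mul_self_sqrt (by norm_num)
  unfold tau
  linear_combination h / 4

theorem sig_eq : sig = 1 - tau := by unfold sig tau; ring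

theorem sqrt_five : Real.sqrt 5 = 2 * tau - 1 := by unfold tau; ring

theorem tau_irrational : Irrational tau := by
  have h : Irrational (Real.sqrt 5) := Nat.Prime.irrational_sqrt (by norm_num)
  unfold tau
  exact ((h.natCast_add 1).div_natCast (m := 2) (by norm_num)) |> fun h' => by simpa using h'

@[simp] theorem ev_zadd (x y : ZT) : ev (zadd x y) = ev x + ev y := by simp [ev, zadd]; ring
@[simp] theorem ev_zsub (x y : ZT) : ev (zsub x y) = ev x - ev y := by simp [ev, zsub]; ring
@[simp] theorem ev_zneg (x : ZT) : ev (zneg x) = -ev x := by simp [ev, zneg]; ring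

@[simp] theorem ev_zmul (x y : ZT) : ev (zmul x y) = ev x * ev y := by
  simp only [ev, zmul]
  push_cast
  linear_combination (-(x.2 : ℝ) * y.2) * tau_sq

theorem ev_zhalf {x : ZT} (h : zeven x = true) : ev (zhalf x) = ev x / 2 := by
  simp only [zeven, Bool.and_eq_true, beq_iff_eq] at h
  obtain ⟨a, ha⟩ := Int.dvd_of_emod_eq_zero h.1
  obtain ⟨b, hb⟩ := Int.dvd_of_emod_eq_zero h.2
  simp only [ev, zhalf, ha, hb, Int.mul_ediv_cancel_left _ (show (2 : ℤ) ≠ 0 by norm_num)]
  push_cast
  ring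

theorem ev_injective : Function.Injective ev := by
  intro x y h
  simp only [ev] at h
  have h2 : ((x.2 - y.2 : ℤ) : ℝ) * tau = ((y.1 - x.1 : ℤ) : ℝ) := by push_cast; linarith
  by_cases hb : x.2 - y.2 = 0
  · rw [hb] at h2
    simp only [Int.cast_zero, zero_mul] at h2
    have := (Int.cast_eq_zero (α := ℝ)).mp h2.symm
    exact Prod.ext (by omega) (by omega)
  · exact absurd h2 ((tau_irrational.intCast_mul hb).ne_int _)

def qzero : Q := ((0, 0), (0, 0), (0, 0), (0, 0))
def qone : Q := ((2, 0), (0, 0), (0, 0), (0, 0))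
def qi : Q := ((0, 0), (2, 0), (0, 0), (0, 0))
def qj : Q := ((0, 0), (0, 0), (2, 0), (0, 0))
def qk : Q := ((0, 0), (0, 0), (0, 0), (2, 0))
def qw : Q := ((1, 0), (1, -1), (0, 0), (0, 1))
def qh : Q := ((1, -2), (1, 0), (1, 0), (1, 0))
def qadd (p q : Q) : Q := (zadd p.1 q.1, zadd p.2.1 q.2.1, zadd p.2.2.1 q.2.2.1, zadd p.2.2.2 q.2.2.2)
def qsub (p q : Q) : Q := (zsub p.1 q.1, zsub p.2.1 q.2.1, zsub p.2.2.1 q.2.2.1, zsub p.2.2.2 q.2.2.2)
def qneg (p : Q) : Q := (zneg p.1, zneg p.2.1, zneg p.2.2.1, zneg p.2.2.2)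
def qconj (p : Q) : Q := (p.1, zneg p.2.1, zneg p.2.2.1, zneg p.2.2.2)
/-- twice the doubled coordinates of the product -/
def rmul : Q → Q → Q
  | (a, b, c, d), (e, f, g, h) =>
    (zsub (zsub (zmul a e) (zmul b f)) (zadd (zmul c g) (zmul d h)),
     zadd (zadd (zmul a f) (zmul b e)) (zsub (zmul c h) (zmul d g)),
     zadd (zsub (zmul a g) (zmul b h)) (zadd (zmul c e) (zmul d f)),
     zadd (zadd (zmul a h) (zmul b g)) (zsub (zmul d e) (zmul c f)))
def qhalf (p : Q) : Q := (zhalf p.1, zhalf p.2.1, zhalf p.2.2.1, zhalf p.2.2.2)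
def qeven (p : Q) : Bool := zeven p.1 && zeven p.2.1 && zeven p.2.2.1 && zeven p.2.2.2
/-- the product, meaningful for icosians -/
def qmul (p q : Q) : Q := qhalf (rmul p q)

/-- the quaternion -/
noncomputable def qev (q : Q) : ℍ[ℝ] := ⟨ev q.1 / 2, ev q.2.1 / 2, ev q.2.2.1 / 2, ev q.2.2.2 / 2⟩

@[simp] theorem qev_re (q : Q) : (qev q).re = ev q.1 / 2 := rfl
@[simp] theorem qev_imI (q : Q) : (qev q).imI = ev q.2.1 / 2 := rfl
@[simp] theorem qev_imJ (q : Q) : (qev q).imJ = ev q.2.2.1 / 2 := rfl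
@[simp] theorem qev_imK (q : Q) : (qev q).imK = ev q.2.2.2 / 2 := rfl

theorem qev_qadd (p q : Q) : qev (qadd p q) = qev p + qev q := by
  ext <;> simp [qadd] <;> ring

theorem qev_qsub (p q : Q) : qev (qsub p q) = qev p - qev q := by
  ext <;> simp [qsub] <;> ring

theorem qev_qneg (p : Q) : qev (qneg p) = -qev p := by
  ext <;> simp [qneg] <;> ring

theorem qev_qconj (p : Q) : qev (qconj p) = star (qev p) := by
  ext <;> simp [qconj] <;> ring

theorem qev_zero : qev qzero = 0 := by
  ext <;> simp [qzero, ev]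

theorem qev_one : qev qone = 1 := by
  ext <;> simp [qone, ev]

theorem qev_rmul (p q : Q) : qev (rmul p q) = (2 : ℝ) • (qev p * qev q) := by
  obtain ⟨a, b, c, d⟩ := p
  obtain ⟨e, f, g, h⟩ := q
  ext <;> simp [rmul, Quaternion.re_mul, Quaternion.imI_mul, Quaternion.imJ_mul, Quaternion.imK_mul] <;> ring

theorem qev_injective : Function.Injective qev := by
  intro p q h
  have h1 := congrArg QuaternionAlgebra.re h
  have h2 := congrArg QuaternionAlgebra.imI h
  have h3 := congrArg QuaternionAlgebra.imJ h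
  have h4 := congrArg QuaternionAlgebra.imK h
  simp only [qev] at h1 h2 h3 h4
  exact Prod.ext (ev_injective (by linarith)) (Prod.ext (ev_injective (by linarith))
    (Prod.ext (ev_injective (by linarith)) (ev_injective (by linarith))))

theorem qev_qhalf {p : Q} (h : qeven p = true) : qev (qhalf p) = (1 / 2 : ℝ) • qev p := by
  simp only [qeven, Bool.and_eq_true] at h
  ext <;> simp [qhalf, ev_zhalf h.1.1.1, ev_zhalf h.1.1.2, ev_zhalf h.1.2, ev_zhalf h.2] <;> ring

theorem qev_qmul {p q : Q} (h : qeven (rmul p q) = true) : qev (qmul p q) = qev p * qev q := by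
  rw [qmul, qev_qhalf h, qev_rmul, smul_smul]
  norm_num

/-- membership in the icosian ring -/
def inI (q : Q) : Bool :=
  zeven (zsub (zsub q.2.2.1 (zmul (0, 1) q.1)) (zmul (1, -1) q.2.1)) &&
    zeven (zsub (zsub q.2.2.2 (zmul (1, -1) q.1)) (zmul (0, 1) q.2.1))

theorem inI_add {p q : Q} (hp : inI p = true) (hq : inI q = true) : inI (qadd p q) = true := by
  simp only [inI, qadd, zeven, zsub, zmul, zadd, Bool.and_eq_true, beq_iff_eq] at *
  omega

theorem inI_neg {p : Q} (hp : inI p = true) : inI (qneg p) = true := by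
  simp only [inI, qneg, zeven, zsub, zmul, zneg, Bool.and_eq_true, beq_iff_eq] at *
  omega

theorem inI_mul_i {p : Q} (hp : inI p = true) : qeven (rmul p qi) = true ∧ inI (qmul p qi) = true := by
  obtain ⟨a, b, c, d⟩ := p
  simp only [inI, qmul, qhalf, qi, rmul, qeven, zhalf, zeven, zsub, zmul, zadd, Bool.and_eq_true, beq_iff_eq] at *
  omega

set_option maxHeartbeats 1600000 in
theorem inI_mul_w {p : Q} (hp : inI p = true) : qeven (rmul p qw) = true ∧ inI (qmul p qw) = true := by
  obtain ⟨a, b, c, d⟩ := p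
  simp only [inI, qmul, qhalf, qw, rmul, qeven, zhalf, zeven, zsub, zmul, zadd, Bool.and_eq_true, beq_iff_eq] at *
  omega

theorem qev_qi : qev qi = Cfsg.Spor.qI := by
  ext <;> simp [qi, ev, Cfsg.Spor.qI]

theorem qev_qw : qev qw = ⟨1 / 2, sig / 2, 0, tau / 2⟩ := by
  ext <;> simp [qw, ev, sig_eq] <;> ring

/-- the model of the icosian ring, as a subring -/
noncomputable def modelAdd : AddSubgroup ℍ[ℝ] where
  carrier := {x | ∃ q, inI q = true ∧ qev q = x}
  zero_mem' := ⟨qzero, by decide, qev_zero⟩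
  add_mem' := by
    rintro _ _ ⟨p, hp, rfl⟩ ⟨q, hq, rfl⟩
    exact ⟨qadd p q, inI_add hp hq, qev_qadd p q⟩
  neg_mem' := by
    rintro _ ⟨p, hp, rfl⟩
    exact ⟨qneg p, inI_neg hp, qev_qneg p⟩

theorem exists_of_mem {x : ℍ[ℝ]} (hx : x ∈ icosians) : ∃ q, inI q = true ∧ qev q = x := by
  let gens : Set ℍ[ℝ] := {Cfsg.Spor.qI, ⟨1 / 2, sig / 2, 0, tau / 2⟩}
  have hmul : ∀ g ∈ gens, ∀ a ∈ modelAdd, a * g ∈ modelAdd := by
    rintro g hg _ ⟨p, hp, rfl⟩
    rcases (show g = Cfsg.Spor.qI ∨ g = _ from hg) with rfl | rfl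
    · exact ⟨qmul p qi, (inI_mul_i hp).2, by rw [qev_qmul (inI_mul_i hp).1, qev_qi]⟩
    · exact ⟨qmul p qw, (inI_mul_w hp).2, by rw [qev_qmul (inI_mul_w hp).1, qev_qw]⟩
  have hone : (1 : ℍ[ℝ]) ∈ modelAdd := ⟨qone, by decide, qev_one⟩
  have key : ∀ y ∈ Submonoid.closure gens, ∀ a ∈ modelAdd, a * y ∈ modelAdd := by
    intro y hy
    induction hy using Submonoid.closure_induction with
    | mem g hg => exact hmul g hg
    | one => intro a ha; rwa [mul_one]
    | mul u v _ _ ihu ihv => intro a ha; rw [← mul_assoc]; exact ihv _ (ihu a ha)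
  have hsub : (Submonoid.closure gens : Set ℍ[ℝ]) ⊆ modelAdd := fun y hy => by
    simpa using key y hy 1 hone
  have h : x ∈ AddSubgroup.closure (Submonoid.closure gens : Set ℍ[ℝ]) := Subring.mem_closure_iff.mp hx
  exact (AddSubgroup.closure_le modelAdd).mpr hsub h

/-- the product of a word in the two generators -/
def wordQ (l : List Bool) : Q := l.foldl (fun q b => qmul q (bif b then qw else qi)) qone

theorem wordQ_mem (l : List Bool) : qev (wordQ l) ∈ icosians := by
  have key : ∀ (l : List Bool) (q : Q), inI q = true → qev q ∈ icosians →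
      qev (l.foldl (fun q b => qmul q (bif b then qw else qi)) q) ∈ icosians := by
    intro l
    induction l with
    | nil => intro q _ h; exact h
    | cons b l ih =>
      intro q hq hm
      cases b
      · refine ih _ (inI_mul_i hq).2 ?_
        show qev (qmul q qi) ∈ icosians
        rw [qev_qmul (inI_mul_i hq).1, qev_qi]
        exact mul_mem hm (Subring.subset_closure (Or.inl rfl))
      · refine ih _ (inI_mul_w hq).2 ?_
        show qev (qmul q qw) ∈ icosians
        rw [qev_qmul (inI_mul_w hq).1, qev_qw]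
        exact mul_mem hm (Subring.subset_closure (Or.inr rfl))
  exact key l qone (by decide) (by rw [qev_one]; exact one_mem _)

theorem qev_qj : qev qj ∈ icosians := by
  rw [show qj = wordQ [false, true, false, true, true, false, true, false, true, true, false, true] by decide]
  exact wordQ_mem _

theorem qev_qk : qev qk ∈ icosians := by
  rw [show qk = wordQ [false, false, true, false, true, true, false, true, false, true, true, false, true] by decide]
  exact wordQ_mem _

theorem qev_tau : qev ((0, 2), (0, 0), (0, 0), (0, 0)) ∈ icosians := by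
  rw [show (((0, 2), (0, 0), (0, 0), (0, 0)) : Q) =
    qadd (wordQ [false, true, false, true, true, false, true, false])
      (wordQ [false, false, false, true, true, false, true, false, true, true, false]) by decide, qev_qadd]
  exact add_mem (wordQ_mem _) (wordQ_mem _)

theorem coe_ev_mem (z : ZT) : ((ev z : ℝ) : ℍ[ℝ]) ∈ icosians := by
  have ht : ((tau : ℝ) : ℍ[ℝ]) ∈ icosians := by
    have h : ((tau : ℝ) : ℍ[ℝ]) = qev ((0, 2), (0, 0), (0, 0), (0, 0)) := by
      ext <;> simp [ev]
    rw [h]; exact qev_tau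
  have : ((ev z : ℝ) : ℍ[ℝ]) = (z.1 : ℍ[ℝ]) + (z.2 : ℍ[ℝ]) * ((tau : ℝ) : ℍ[ℝ]) := by
    ext <;> simp [ev]
  rw [this]
  exact add_mem (intCast_mem _ _) (mul_mem (intCast_mem _ _) ht)

theorem mem_of_inI {q : Q} (h : inI q = true) : qev q ∈ icosians := by
  obtain ⟨a, b, c, d⟩ := q
  let X := zadd (zmul (0, 1) a) b
  let Y := zadd a (zmul (0, 1) b)
  let iw := qmul qi qw
  let r1 := zsub (zsub a X) (zmul Y (-1, 1))
  let r2 := zsub (zsub b (zmul X (1, -1))) Y
  let r3 := zsub c (zmul Y (0, -1))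
  let r4 := zsub d (zmul X (0, 1))
  have hev : zeven r1 = true ∧ zeven r2 = true ∧ zeven r3 = true ∧ zeven r4 = true := by
    simp only [r1, r2, r3, r4, X, Y, inI, zeven, zsub, zmul, zadd, Bool.and_eq_true, beq_iff_eq] at *
    omega
  have hdec : qev (a, b, c, d) = ((ev X : ℝ) : ℍ[ℝ]) * qev qw + ((ev Y : ℝ) : ℍ[ℝ]) * qev iw
      + ((ev (zhalf r1) : ℝ) : ℍ[ℝ]) + ((ev (zhalf r2) : ℝ) : ℍ[ℝ]) * qev qi
      + ((ev (zhalf r3) : ℝ) : ℍ[ℝ]) * qev qj + ((ev (zhalf r4) : ℝ) : ℍ[ℝ]) * qev qk := by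
    rw [ev_zhalf hev.1, ev_zhalf hev.2.1, ev_zhalf hev.2.2.1, ev_zhalf hev.2.2.2, Quaternion.coe_mul_eq_smul,
      Quaternion.coe_mul_eq_smul, Quaternion.coe_mul_eq_smul, Quaternion.coe_mul_eq_smul, Quaternion.coe_mul_eq_smul,
      show iw = ((-1, 1), (1, 0), (0, -1), (0, 0)) by decide]
    ext <;> simp only [Quaternion.re_add, Quaternion.imI_add, Quaternion.imJ_add, Quaternion.imK_add, Quaternion.re_coe,
        Quaternion.imI_coe, Quaternion.imJ_coe, Quaternion.imK_coe, Quaternion.re_smul, Quaternion.imI_smul,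
        Quaternion.imJ_smul, Quaternion.imK_smul, smul_eq_mul, qev_re, qev_imI, qev_imJ, qev_imK] <;>
      simp [qw, qi, qj, qk, r1, r2, r3, r4, X, Y] <;> simp [ev] <;> ring
  rw [hdec]
  have hqi : qev qi ∈ icosians := by rw [qev_qi]; exact Subring.subset_closure (Or.inl rfl)
  have hqw : qev qw ∈ icosians := by rw [qev_qw]; exact Subring.subset_closure (Or.inr rfl)
  have hiw : qev iw ∈ icosians := by
    rw [show iw = wordQ [false, true] by decide]; exact wordQ_mem _
  exact add_mem (add_mem (add_mem (add_mem (add_mem (mul_mem (coe_ev_mem _) hqw) (mul_mem (coe_ev_mem _) hiw))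
    (coe_ev_mem _)) (mul_mem (coe_ev_mem _) hqi)) (mul_mem (coe_ev_mem _) qev_qj)) (mul_mem (coe_ev_mem _) qev_qk)

theorem mem_icosians_iff {x : ℍ[ℝ]} : x ∈ icosians ↔ ∃ q, inI q = true ∧ qev q = x :=
  ⟨exists_of_mem, by rintro ⟨q, h, rfl⟩; exact mem_of_inI h⟩

theorem inI_qmul {p q : Q} (hp : inI p = true) (hq : inI q = true) :
    qeven (rmul p q) = true ∧ inI (qmul p q) = true := by
  obtain ⟨r, hr, e⟩ := exists_of_mem (mul_mem (mem_of_inI hp) (mem_of_inI hq))
  have h2 : rmul p q = qadd r r := qev_injective (by rw [qev_rmul, qev_qadd, e, two_smul])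
  have hev : qeven (rmul p q) = true := by
    rw [h2]
    simp only [qeven, qadd, zeven, zadd, Bool.and_eq_true, beq_iff_eq]
    omega
  exact ⟨hev, by rw [show qmul p q = r from qev_injective (by rw [qev_qmul hev, e])]; exact hr⟩

theorem inI_qconj {p : Q} (hp : inI p = true) : inI (qconj p) = true := by
  simp only [inI, qconj, zeven, zsub, zmul, zneg, Bool.and_eq_true, beq_iff_eq] at *
  omega

theorem qev_qh : qev qh = icoH := by
  ext <;> simp [qh, ev, icoH, sqrt_five] <;> ring

theorem icoH_mul_star : star icoH * icoH = 2 ∧ icoH * star icoH = 2 := by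
  rw [← qev_qh, ← qev_qconj, ← qev_qmul (by decide : qeven (rmul (qconj qh) qh) = true),
    ← qev_qmul (by decide : qeven (rmul qh (qconj qh)) = true),
    show qmul (qconj qh) qh = qadd qone qone by decide, show qmul qh (qconj qh) = qadd qone qone by decide,
    qev_qadd, qev_one, one_add_one_eq_two]
  exact ⟨rfl, rfl⟩

/-- membership in the left ideal of `h`, tested through a product with the conjugate `h'` -/
def inLeft (h' x : Q) : Bool :=
  let p := qmul x h'
  qeven p && inI (qhalf p)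

theorem mem_leftIdeal_iff {h h' : Q} (hh' : inI h' = true) (hm : inI h = true) (hprod : qev h' * qev h = 2)
    (hprod' : qev h * qev h' = 2) {x : Q} (hx : inI x = true) :
    qev x ∈ leftIdeal (qev h) ↔ inLeft h' x = true := by
  have he := (inI_qmul hx hh').1
  constructor
  · rintro ⟨a, ha, hxa⟩
    obtain ⟨r, hr, rfl⟩ := exists_of_mem ha
    have h2 : qmul x h' = qadd r r := qev_injective (by
      rw [qev_qmul he, qev_qadd, hxa, mul_assoc, hprod', mul_two])
    simp only [inLeft, h2, Bool.and_eq_true]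
    refine ⟨?_, ?_⟩
    · simp only [qeven, qadd, zeven, zadd, Bool.and_eq_true, beq_iff_eq]; omega
    · have : qhalf (qadd r r) = r := by
        simp only [qhalf, qadd, zhalf, zadd]
        refine Prod.ext (Prod.ext ?_ ?_) (Prod.ext (Prod.ext ?_ ?_) (Prod.ext (Prod.ext ?_ ?_) (Prod.ext ?_ ?_))) <;>
          simp <;> omega
      rw [this]; exact hr
  · intro hl
    simp only [inLeft, Bool.and_eq_true] at hl
    refine ⟨_, mem_of_inI hl.2, ?_⟩
    rw [qev_qhalf hl.1, qev_qmul he, smul_mul_assoc, mul_assoc, hprod,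
      show qev x * 2 = (2 : ℝ) • qev x by rw [mul_two, two_smul], smul_smul]
    norm_num

end CfsgLib.Recog.Icosian
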