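import Cfsg.Agent.Lib.Recog.Icosian.Vectors

/-!
# Quaternionic reflections of the icosian Leech lattice
-/

set_option autoImplicit false
set_option maxRecDepth 20000

namespace CfsgLib.Recog.Icosian

open Quaternion Cfsg.Spor

abbrev W := Fin 3 → ℍ[ℝ]

/-- left scalar multiple -/
noncomputable def lsmul (a : ℍ[ℝ]) (f : W) : W := fun t => a * f t

theorem qip_add_left (x y r : W) : qip (x + y) r = qip x r + qip y r := by
  simp [qip, add_mul, Finset.sum_add_distrib]

theorem qip_sub_left (x y r : W) : qip (x - y) r = qip x r - qip y r := by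
  simp [qip, sub_mul, Finset.sum_sub_distrib]

theorem qip_sub_right (x y r : W) : qip r (x - y) = qip r x - qip r y := by
  simp [qip, mul_sub, star_sub, Finset.sum_sub_distrib]

theorem qip_lsmul_left (a : ℍ[ℝ]) (x r : W) : qip (lsmul a x) r = a * qip x r := by
  simp [qip, lsmul, Finset.mul_sum, mul_assoc]

theorem qip_lsmul_right (a : ℍ[ℝ]) (x r : W) : qip x (lsmul a r) = qip x r * star a := by
  simp [qip, lsmul, star_mul, Finset.sum_mul, mul_assoc]

theorem qip_star (x y : W) : star (qip x y) = qip y x := by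
  simp [qip, star_sum, star_mul]

/-- the reflection as `x - c r` -/
theorem qrefl_eq (r x : W) : qrefl r x = x - lsmul ((1 / 2 : ℝ) • qip x r) r := rfl

theorem lsmul_lsmul (a b : ℍ[ℝ]) (f : W) : lsmul a (lsmul b f) = lsmul (a * b) f := funext fun t => by
  simp [lsmul, mul_assoc]

theorem qrefl_lsmul (a : ℍ[ℝ]) (r x : W) : qrefl r (lsmul a x) = lsmul a (qrefl r x) := by
  funext t
  simp only [qrefl_eq, qip_lsmul_left, lsmul, Pi.sub_apply, mul_sub, ← mul_smul_comm, mul_assoc]

theorem qrefl_add (r x y : W) : qrefl r (x + y) = qrefl r x + qrefl r y := by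
  funext t
  simp only [qrefl_eq, qip_add_left, lsmul, Pi.sub_apply, Pi.add_apply, smul_add, add_mul]
  abel

theorem four_smul_half (c : ℍ[ℝ]) : c * 4 = c + c + c + c := by
  rw [show (4 : ℍ[ℝ]) = 1 + 1 + 1 + 1 by norm_num]; simp [mul_add]

theorem two_half (c : ℍ[ℝ]) : ((1 / 2 : ℝ) • c) + (1 / 2 : ℝ) • c = c := by
  rw [← add_smul]; norm_num

theorem qip_qrefl {r : W} (hr : qip r r = 4) (x y : W) : qip (qrefl r x) (qrefl r y) = qip x y := by
  set c := (1 / 2 : ℝ) • qip x r with hc
  set d := (1 / 2 : ℝ) • qip y r with hd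
  have e1 : qip x r = c + c := (two_half _).symm
  have e2 : qip r y = star d + star d := by rw [← qip_star y r, ← (two_half (qip y r)), ← hd, star_add]
  rw [qrefl_eq, qrefl_eq, ← hc, ← hd, qip_sub_left, qip_sub_right, qip_sub_right, qip_lsmul_left, qip_lsmul_left,
    qip_lsmul_right, qip_lsmul_right, e1, e2, hr]
  rw [show c * (4 * star d) = c * star d * 4 by rw [mul_assoc, four_eq, Quaternion.coe_commutes]]
  rw [four_smul_half]
  noncomm_ring

theorem qrefl_qrefl {r : W} (hr : qip r r = 4) (x : W) : qrefl r (qrefl r x) = x := by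
  set c := (1 / 2 : ℝ) • qip x r with hc
  have e1 : qip x r = c + c := (two_half _).symm
  have e : (1 / 2 : ℝ) • qip (qrefl r x) r = -c := by
    rw [qrefl_eq, qip_sub_left, qip_lsmul_left, ← hc, e1, hr, four_smul_half,
      show c + c - (c + c + c + c) = -(c + c) by abel, smul_neg, smul_add, two_half]
  rw [qrefl_eq r (qrefl r x), e, qrefl_eq, ← hc]
  funext t
  simp [lsmul]

theorem qrefl_unit {u : ℍ[ℝ]} (hu : star u * u = 1) (r x : W) : qrefl (lsmul u r) x = qrefl r x := by
  funext t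
  simp only [qrefl_eq, qip_lsmul_right, lsmul, Pi.sub_apply, smul_mul_assoc]
  rw [mul_assoc, ← mul_assoc (star u), hu, one_mul]

/-- an `ℍ`-linear isometry -/
structure IsLinIso (g : W → W) : Prop where
  add : ∀ x y, g (x + y) = g x + g y
  smul : ∀ a x, g (lsmul a x) = lsmul a (g x)
  isometry : ∀ x y, qip (g x) (g y) = qip x y

theorem IsLinIso.sub {g : W → W} (h : IsLinIso g) (x y : W) : g (x - y) = g x - g y := by
  rw [eq_sub_iff_add_eq, ← h.add, sub_add_cancel]

theorem isLinIso_qrefl {r : W} (hr : qip r r = 4) : IsLinIso (qrefl r) :=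
  ⟨qrefl_add r, fun a x => qrefl_lsmul a r x, qip_qrefl hr⟩

theorem isLinIso_id : IsLinIso id := ⟨fun _ _ => rfl, fun _ _ => rfl, fun _ _ => rfl⟩

theorem IsLinIso.comp {g g' : W → W} (h : IsLinIso g) (h' : IsLinIso g') : IsLinIso (g ∘ g') :=
  ⟨fun x y => by simp [h'.add, h.add], fun a x => by simp [h'.smul, h.smul],
    fun x y => by simp [h.isometry, h'.isometry]⟩

theorem IsLinIso.map_qrefl {g : W → W} (h : IsLinIso g) (r x : W) : qrefl (g r) (g x) = g (qrefl r x) := by
  rw [qrefl_eq, h.isometry, qrefl_eq, h.sub, h.smul]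

/-! ### A basis of the lattice -/

def basisOne : V := (qone, qone, qhb)
def basisTwo : V := (qzero, qh, qh)
def basisThree : V := (qzero, qzero, qadd qone qone)

theorem basis_mem : inLam basisOne = true ∧ inLam basisTwo = true ∧ inLam basisThree = true := by decide

/-- `h * bezoutA + star h * bezoutB = 1` -/
def bezoutA : Q := ((0, 0), (-2, 0), (0, 0), (0, 0))
def bezoutB : Q := ((0, 0), (1, 0), (1, -1), (0, 1))

theorem both_ideals {z : Q} (hz : inI z = true) (h1 : inLeft qhb z = true) (h2 : inLeft qh z = true) :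
    (1 / 2 : ℝ) • qev z ∈ icosians := by
  rw [← leftIdeal_h hz] at h1
  rw [← leftIdeal_hbar hz] at h2
  obtain ⟨a, ha, e⟩ := h1
  obtain ⟨a', ha', e'⟩ := h2
  have ehb : qev qhb = star icoH := by rw [qhb, qev_qconj, qev_qh]
  have hA : inI bezoutA = true := by decide
  have hB : inI bezoutB = true := by decide
  have hone : icoH * qev bezoutA + star icoH * qev bezoutB = 1 := by
    rw [← ehb, ← qev_qh, ← qev_qmul (inI_qmul inI_qh.1 hA).1, ← qev_qmul (inI_qmul inI_qh.2 hB).1, ← qev_qadd,
      show qadd (qmul qh bezoutA) (qmul qhb bezoutB) = qone by decide, qev_one]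
  have key : qev z = (a' * qev bezoutA + a * qev bezoutB) * 2 := by
    have two_r : ∀ w : ℍ[ℝ], (2 : ℍ[ℝ]) * w = w * 2 := fun w => by rw [two_mul, mul_two]
    calc qev z = qev z * (icoH * qev bezoutA + star icoH * qev bezoutB) := by rw [hone, mul_one]
      _ = qev z * icoH * qev bezoutA + qev z * star icoH * qev bezoutB := by rw [mul_add, mul_assoc, mul_assoc]
      _ = a' * (star icoH * icoH) * qev bezoutA + a * (icoH * star icoH) * qev bezoutB := by
        rw [← mul_assoc a', ← mul_assoc a, ← e, ← e']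
      _ = (a' * qev bezoutA + a * qev bezoutB) * 2 := by
        rw [icoH_mul_star.1, icoH_mul_star.2, add_mul, mul_assoc a', mul_assoc a, two_r, two_r, mul_assoc a' _ 2,
          mul_assoc a _ 2]
  rw [key, mul_two, smul_add, two_half]
  exact add_mem (mul_mem ha' (mem_of_inI hA)) (mul_mem ha (mem_of_inI hB))

theorem exists_coords {x : W} (hx : x ∈ icoLeech) : ∃ a b c, a ∈ icosians ∧ b ∈ icosians ∧ c ∈ icosians ∧
    x = lsmul a (vev basisOne) + lsmul b (vev basisTwo) + lsmul c (vev basisThree) := by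
  obtain ⟨hI, h01, h12, h012⟩ := hx
  obtain ⟨b, hb, eb⟩ := h01
  obtain ⟨b', hb', eb'⟩ := h12
  obtain ⟨s, hs, es⟩ := h012
  have e1 : qev qone = 1 := qev_one
  have ehb : qev qhb = star icoH := by rw [qhb, qev_qconj, qev_qh]
  have h2 : star icoH * icoH = 2 := icoH_mul_star.1
  -- the remaining last coordinate
  obtain ⟨z, hz, ez⟩ := exists_of_mem (x := x 2 - x 0 * star icoH + b * icoH)
    (add_mem (sub_mem (hI 2) (mul_mem (hI 0) (ehb ▸ mem_of_inI inI_qh.2)))
      (mul_mem hb (qev_qh ▸ mem_of_inI inI_qh.1)))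
  have hL1 : inLeft qhb z = true := by
    rw [← leftIdeal_h hz, ez]
    have hone : x 0 - x 0 * star icoH ∈ leftIdeal icoH := by
      have hc : qev qone - qev qhb ∈ leftIdeal icoH := by
        rw [← qev_qsub, leftIdeal_h (inI_sub (by decide) inI_qh.2)]; decide
      rw [e1, ehb] at hc
      have := leftIdeal_smul (hI 0) hc
      rwa [mul_sub, mul_one] at this
    have hA : x 0 - x 1 ∈ leftIdeal icoH := ⟨b, hb, eb⟩
    have hB : x 1 - x 2 ∈ leftIdeal icoH := ⟨b', hb', eb'⟩
    have hC : b * icoH ∈ leftIdeal icoH := ⟨b, hb, rfl⟩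
    have := leftIdeal_sub (leftIdeal_sub (leftIdeal_sub hone hA) hB) (leftIdeal_neg hC)
    convert this using 1
    abel
  have hL2 : inLeft qh z = true := by
    rw [← leftIdeal_hbar hz, ez]
    have hS : x 0 + x 1 + x 2 ∈ leftIdeal (star icoH) := ⟨s, hs, es⟩
    have hc1 : qev (qadd (qadd qone qone) qhb) ∈ leftIdeal (star icoH) := by
      rw [leftIdeal_hbar (by decide)]; decide
    have hc2 : qev (qadd qh qh) ∈ leftIdeal (star icoH) := by
      rw [leftIdeal_hbar (by decide)]; decide
    rw [qev_qadd, qev_qadd, e1, ehb] at hc1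
    rw [qev_qadd, qev_qh] at hc2
    have := leftIdeal_sub hS (leftIdeal_sub (leftIdeal_smul (hI 0) hc1) (leftIdeal_smul hb hc2))
    convert this using 1
    rw [mul_add, mul_add, mul_one, mul_add, ← eb]
    abel
  refine ⟨x 0, -b, (1 / 2 : ℝ) • qev z, hI 0, neg_mem hb, both_ideals hz hL1 hL2, ?_⟩
  funext t
  fin_cases t
  · simp [lsmul, vev, basisOne, basisTwo, basisThree, qev_zero, e1]
  · simp [lsmul, vev, basisOne, basisTwo, basisThree, qev_zero, e1, qev_qh, ← eb]
  · simp [lsmul, vev, basisOne, basisTwo, basisThree, ehb, qev_qh, qev_qadd, e1]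
    have : ((1 / 2 : ℝ) • qev z) * (1 + 1) = x 2 - x 0 * star icoH + b * icoH := by
      rw [ez, mul_add, mul_one, two_half]
    norm_num at this ⊢
    rw [this]
    abel

theorem icoLeech_sub {x y : W} (hx : x ∈ icoLeech) (hy : y ∈ icoLeech) : x - y ∈ icoLeech := by
  obtain ⟨a1, a2, a3, a4⟩ := hx
  obtain ⟨b1, b2, b3, b4⟩ := hy
  refine ⟨fun t => sub_mem (a1 t) (b1 t), ?_, ?_, ?_⟩
  · convert leftIdeal_sub a2 b2 using 1; simp only [Pi.sub_apply]; abel
  · convert leftIdeal_sub a3 b3 using 1; simp only [Pi.sub_apply]; abel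
  · convert leftIdeal_sub a4 b4 using 1; simp only [Pi.sub_apply]; abel

/-- half of the product of two vectors -/
def halfIp (v r : V) : Q :=
  qhalf (qadd (qadd (qmul v.1 (qconj r.1)) (qmul v.2.1 (qconj r.2.1))) (qmul v.2.2 (qconj r.2.2)))

/-- the product is twice an icosian -/
def evenIp (v r : V) : Bool :=
  qeven (qadd (qadd (qmul v.1 (qconj r.1)) (qmul v.2.1 (qconj r.2.1))) (qmul v.2.2 (qconj r.2.2))) && inI (halfIp v r)

theorem qip_vev {v r : V} (hv : inLam v = true) (hr : inLam r = true) (h : evenIp v r = true) :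
    (1 / 2 : ℝ) • qip (vev v) (vev r) = qev (halfIp v r) := by
  obtain ⟨a, b, c⟩ := coords_of_inLam hv
  obtain ⟨a', b', c'⟩ := coords_of_inLam hr
  simp only [evenIp, Bool.and_eq_true] at h
  rw [halfIp, qev_qhalf h.1, qev_qadd, qev_qadd, qev_qmul (inI_qmul a (inI_qconj a')).1,
    qev_qmul (inI_qmul b (inI_qconj b')).1, qev_qmul (inI_qmul c (inI_qconj c')).1, qev_qconj, qev_qconj, qev_qconj]
  congr 1
  simp [qip, vev, Fin.sum_univ_three]

/-- a vector whose reflection preserves the lattice -/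
def goodRoot (r : V) : Bool := evenIp basisOne r && evenIp basisTwo r && evenIp basisThree r

theorem qrefl_mem {r : V} (hr : inLam r = true) (h : goodRoot r = true) {x : W} (hx : x ∈ icoLeech) :
    qrefl (vev r) x ∈ icoLeech := by
  simp only [goodRoot, Bool.and_eq_true] at h
  obtain ⟨a, b, c, ha, hb, hc, e⟩ := exists_coords hx
  have hs : (1 / 2 : ℝ) • qip x (vev r) ∈ icosians := by
    rw [e, qip_add_left, qip_add_left, qip_lsmul_left, qip_lsmul_left, qip_lsmul_left, smul_add, smul_add,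
      ← mul_smul_comm, ← mul_smul_comm, ← mul_smul_comm, qip_vev basis_mem.1 hr h.1.1,
      qip_vev basis_mem.2.1 hr h.1.2, qip_vev basis_mem.2.2 hr h.2]
    have key : ∀ v : V, evenIp v r = true → qev (halfIp v r) ∈ icosians := fun v hv => by
      simp only [evenIp, Bool.and_eq_true] at hv
      exact mem_of_inI hv.2
    exact add_mem (add_mem (mul_mem ha (key _ h.1.1)) (mul_mem hb (key _ h.1.2))) (mul_mem hc (key _ h.2))
  rw [qrefl_eq]
  exact icoLeech_sub hx (smul_mem_icoLeech hs (mem_icoLeech_iff.mpr ⟨r, hr, rfl⟩))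

end CfsgLib.Recog.Icosian
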