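import Cfsg.Agent.Lib.Recog.Icosian.CheckScan
import Cfsg.Agent.Lib.Recog.Icosian.CheckSmall
import Cfsg.Agent.Lib.Recog.Icosian.CheckTriple

/-!
# The minimal vectors of the icosian Leech lattice: 120 multiples of 315 vectors
-/

set_option autoImplicit false
set_option maxRecDepth 20000

namespace CfsgLib.Recog.Icosian

open Quaternion Cfsg.Spor

/-- the quaternionic vector -/
noncomputable def vev (v : V) : Fin 3 → ℍ[ℝ] := ![qev v.1, qev v.2.1, qev v.2.2]

theorem vev_injective : Function.Injective vev := fun v w h => by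
  have h0 := congrFun h 0
  have h1 := congrFun h 1
  have h2 := congrFun h 2
  simp only [vev, Matrix.cons_val_zero, Matrix.cons_val_one, Matrix.cons_val_two, Matrix.tail_cons,
    Matrix.head_cons] at h0 h1 h2
  exact Prod.ext (qev_injective h0) (Prod.ext (qev_injective h1) (qev_injective h2))

theorem zeq_iff {x y : ZT} : zeq x y = true ↔ x = y := by
  simp [zeq, Prod.ext_iff]

theorem qeq_iff {p q : Q} : qeq p q = true ↔ p = q := by
  simp [qeq, zeq_iff, Prod.ext_iff, and_assoc]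

theorem veq_iff {v w : V} : veq v w = true ↔ v = w := by
  simp [veq, qeq_iff, Prod.ext_iff, and_assoc]

theorem inI_sub {p q : Q} (hp : inI p = true) (hq : inI q = true) : inI (qsub p q) = true := by
  simp only [inI, qsub, zeven, zsub, zmul, Bool.and_eq_true, beq_iff_eq] at *
  omega

theorem inI_qh : inI qh = true ∧ inI qhb = true := by decide

theorem leftIdeal_h {x : Q} (hx : inI x = true) : qev x ∈ leftIdeal icoH ↔ inLeft qhb x = true := by
  rw [← qev_qh]
  refine mem_leftIdeal_iff inI_qh.2 inI_qh.1 ?_ ?_ hx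
  · rw [qhb, qev_qconj, qev_qh]; exact icoH_mul_star.1
  · rw [qhb, qev_qconj, qev_qh]; exact icoH_mul_star.2

theorem leftIdeal_hbar {x : Q} (hx : inI x = true) : qev x ∈ leftIdeal (star icoH) ↔ inLeft qh x = true := by
  have e : star icoH = qev qhb := by rw [qhb, qev_qconj, qev_qh]
  rw [e]
  refine mem_leftIdeal_iff inI_qh.1 inI_qh.2 ?_ ?_ hx
  · rw [← e, qev_qh]; exact icoH_mul_star.2
  · rw [← e, qev_qh]; exact icoH_mul_star.1

theorem leftIdeal_sub {g x y : ℍ[ℝ]} (hx : x ∈ leftIdeal g) (hy : y ∈ leftIdeal g) : x - y ∈ leftIdeal g := by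
  obtain ⟨a, ha, rfl⟩ := hx
  obtain ⟨b, hb, rfl⟩ := hy
  exact ⟨a - b, sub_mem ha hb, by rw [sub_mul]⟩

theorem leftIdeal_neg {g x : ℍ[ℝ]} (hx : x ∈ leftIdeal g) : -x ∈ leftIdeal g := by
  obtain ⟨a, ha, rfl⟩ := hx
  exact ⟨-a, neg_mem ha, by rw [neg_mul]⟩

theorem leftIdeal_smul {g x u : ℍ[ℝ]} (hu : u ∈ icosians) (hx : x ∈ leftIdeal g) : u * x ∈ leftIdeal g := by
  obtain ⟨a, ha, rfl⟩ := hx
  exact ⟨u * a, mul_mem hu ha, by rw [mul_assoc]⟩

theorem mem_icoLeech_iff {f : Fin 3 → ℍ[ℝ]} : f ∈ icoLeech ↔ ∃ v, inLam v = true ∧ vev v = f := by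
  constructor
  · rintro ⟨hI, h1, h2, h3⟩
    obtain ⟨a, ha, ea⟩ := exists_of_mem (hI 0)
    obtain ⟨b, hb, eb⟩ := exists_of_mem (hI 1)
    obtain ⟨c, hc, ec⟩ := exists_of_mem (hI 2)
    rw [← ea, ← eb, ← qev_qsub, leftIdeal_h (inI_sub ha hb)] at h1
    rw [← eb, ← ec, ← qev_qsub, leftIdeal_h (inI_sub hb hc)] at h2
    rw [← ea, ← eb, ← ec, ← qev_qadd, ← qev_qadd, leftIdeal_hbar (inI_add (inI_add ha hb) hc)] at h3
    refine ⟨(a, b, c), by simp [inLam, ha, hb, hc, h1, h2, h3], ?_⟩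
    funext t
    fin_cases t <;> simp [vev, ea, eb, ec]
  · rintro ⟨⟨a, b, c⟩, hv, rfl⟩
    simp only [inLam, Bool.and_eq_true] at hv
    obtain ⟨⟨⟨⟨⟨ha, hb⟩, hc⟩, h1⟩, h2⟩, h3⟩ := hv
    refine ⟨fun t => ?_, ?_, ?_, ?_⟩
    · fin_cases t <;> simp [vev, mem_of_inI, ha, hb, hc]
    · show qev a - qev b ∈ _
      rw [← qev_qsub]; exact (leftIdeal_h (inI_sub ha hb)).mpr h1
    · show qev b - qev c ∈ _
      rw [← qev_qsub]; exact (leftIdeal_h (inI_sub hb hc)).mpr h2
    · show qev a + qev b + qev c ∈ _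
      rw [← qev_qadd, ← qev_qadd]; exact (leftIdeal_hbar (inI_add (inI_add ha hb) hc)).mpr h3

theorem qev_mul_star (q : Q) : qev q * star (qev q) = ((ev (nrm q) / 4 : ℝ) : ℍ[ℝ]) := by
  ext <;> simp only [Quaternion.re_mul, Quaternion.imI_mul, Quaternion.imJ_mul, Quaternion.imK_mul, Quaternion.re_star,
    Quaternion.imI_star, Quaternion.imJ_star, Quaternion.imK_star, Quaternion.re_coe, Quaternion.imI_coe,
    Quaternion.imJ_coe, Quaternion.imK_coe, qev_re, qev_imI, qev_imJ, qev_imK, nrm, ev_zadd, ev_zmul] <;> ring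

theorem four_eq : (4 : ℍ[ℝ]) = ((4 : ℝ) : ℍ[ℝ]) := (map_ofNat (algebraMap ℝ ℍ[ℝ]) 4).symm

theorem qip_self (v : V) : qip (vev v) (vev v) = 4 ↔ zadd (zadd (nrm v.1) (nrm v.2.1)) (nrm v.2.2) = (16, 0) := by
  have h : qip (vev v) (vev v) =
      ((ev (zadd (zadd (nrm v.1) (nrm v.2.1)) (nrm v.2.2)) / 4 : ℝ) : ℍ[ℝ]) := by
    simp only [qip, Fin.sum_univ_three, vev, Matrix.cons_val_zero, Matrix.cons_val_one, Matrix.cons_val_two,
      Matrix.tail_cons, Matrix.head_cons, qev_mul_star, ← Quaternion.coe_add, ev_zadd]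
    congr 1
    ring
  rw [h, four_eq, Quaternion.coe_inj]
  constructor
  · intro e
    exact ev_injective (by rw [show ev ((16, 0) : ZT) = 16 by simp [ev]]; linarith)
  · intro e
    rw [e]; norm_num [ev]

theorem nrm_fst (q : Q) : (nrm q).1 = zsq q.1 + zsq q.2.1 + zsq q.2.2.1 + zsq q.2.2.2 := by
  simp [nrm, zsq, zadd, zmul]; ring

theorem zsq_nonneg (x : ZT) : 0 ≤ zsq x := by unfold zsq; nlinarith [mul_self_nonneg x.1, mul_self_nonneg x.2]

theorem box_mem {x : ZT} (h : zsq x ≤ 16) : x ∈ boxList := by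
  have h1 := mul_self_nonneg x.1
  have h2 := mul_self_nonneg x.2
  have b1 : -4 ≤ x.1 ∧ x.1 ≤ 4 := by unfold zsq at h; constructor <;> nlinarith
  have b2 : -4 ≤ x.2 ∧ x.2 ≤ 4 := by unfold zsq at h; constructor <;> nlinarith
  have hc := box_check.1
  simp only [List.all_eq_true, List.mem_range, Bool.or_eq_true, decide_eq_true_eq, List.any_eq_true, zeq_iff] at hc
  obtain ⟨i, hi⟩ : ∃ i : ℕ, x.1 + 4 = i := ⟨(x.1 + 4).toNat, by omega⟩
  obtain ⟨j, hj⟩ : ∃ j : ℕ, x.2 + 4 = j := ⟨(x.2 + 4).toNat, by omega⟩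
  have hx : ((i : ℤ) - 4, (j : ℤ) - 4) = x := Prod.ext (by omega) (by omega)
  rcases hc i (by omega) j (by omega) with h' | ⟨y, hy, e⟩
  · rw [hx] at h'; omega
  · rw [hx] at e; exact e ▸ hy

theorem mem_parity {d x : ZT} (hd : zsq d ≤ 16) (h : zeven (zsub d x) = true) : d ∈ parity x := by
  have hc := parity_check
  simp only [List.all_eq_true, List.any_eq_true, zeq_iff] at hc
  obtain ⟨y, hy, e⟩ := hc d (box_mem hd)
  have hp : parity x = parity d := by
    simp only [zeven, zsub, Bool.and_eq_true, beq_iff_eq] at h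
    have e1 : x.1 % 2 = d.1 % 2 := by omega
    have e2 : x.2 % 2 = d.2 % 2 := by omega
    simp only [parity, e1, e2]
  rw [hp]; exact e ▸ hy

theorem mem_zip_exists {α β : Type} {x : α} : ∀ {l : List α} {m : List β}, l.length = m.length → x ∈ l →
    ∃ y ∈ m, (x, y) ∈ l.zip m := by
  intro l m hlen hx
  obtain ⟨i, hi, rfl⟩ := List.getElem_of_mem hx
  exact ⟨m[i]'(by omega), List.getElem_mem _, List.mem_iff_getElem.mpr ⟨i, by simp; omega, by simp⟩⟩

theorem scan_all : ∀ e ∈ boxList.zip leafTab, scanB e.1 e.2 = true := by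
  intro e he
  obtain ⟨i, hi, rfl⟩ := List.getElem_of_mem he
  have hlen : (boxList.zip leafTab).length = 49 := by rw [List.length_zip, box_check.2.1, box_check.2.2.1]; rfl
  have hi' : i < 49 := by omega
  have hblock : scanBlock (i / 7) = true := by
    have : i / 7 < 7 := by omega
    interval_cases hk : i / 7
    exacts [scan_block0, scan_block1, scan_block2, scan_block3, scan_block4, scan_block5, scan_block6]
  simp only [scanBlock, List.all_eq_true] at hblock
  refine hblock _ (List.mem_iff_getElem.mpr ⟨i % 7, by simp only [List.length_take, List.length_drop]; omega, ?_⟩)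
  rw [List.getElem_take, List.getElem_drop]
  congr 1
  omega

/-- what the table records about a small icosian -/
theorem small_data {q : Q} (hI : inI q = true) (hn : (nrm q).1 ≤ 16) (hty : nrm q ∈ tyList) :
    ∃ t < 9, ∃ a < 16, ∃ b < 16, ∃ c ∈ smallAt t a b, deco c = q ∧ nrm q = tyAt t ∧
      ∃ u < 120, ∃ r ∈ repsAt t, qmul (unitAt u) q = deco r := by
  obtain ⟨x1, x2, x3, x4⟩ := q
  have hs := nrm_fst (x1, x2, x3, x4)
  simp only at hs
  have n1 := zsq_nonneg x1; have n2 := zsq_nonneg x2; have n3 := zsq_nonneg x3; have n4 := zsq_nonneg x4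
  obtain ⟨row, hrow, hz⟩ := mem_zip_exists (m := leafTab) (by rw [box_check.2.1, box_check.2.2.1]) (box_mem (x := x1) (by omega))
  have hB := scan_all _ hz
  have hlen : row.length = 49 := by
    have := box_check.2.2.2
    rw [List.all_eq_true] at this
    simpa using this row hrow
  obtain ⟨recs, -, hz2⟩ := mem_zip_exists (m := row) (by rw [box_check.2.1, hlen]) (box_mem (x := x2) (by omega))
  simp only [scanB, List.all_eq_true] at hB
  have hB := hB _ hz2
  simp only [inI, Bool.and_eq_true] at hI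
  have hc3 : zeven (zsub x3 (zadd (zmul (0, 1) x1) (zmul (1, -1) x2))) = true := by
    have := hI.1
    simp only [zeven, zsub, zadd, zmul, Bool.and_eq_true, beq_iff_eq] at *
    omega
  have hc4 : zeven (zsub x4 (zadd (zmul (1, -1) x1) (zmul (0, 1) x2))) = true := by
    have := hI.2
    simp only [zeven, zsub, zadd, zmul, Bool.and_eq_true, beq_iff_eq] at *
    omega
  rw [show decide (16 < zsq x1 + zsq x2) = false from decide_eq_false (by omega), cond_false, List.all_eq_true] at hB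
  have hB := hB _ (mem_parity (d := x3) (by omega) hc3)
  rw [show decide (16 < zsq x1 + zsq x2 + zsq x3) = false from decide_eq_false (by omega), cond_false] at hB
  simp only [scanD, List.all_eq_true] at hB
  have hB := hB _ (mem_parity (d := x4) (by omega) hc4)
  rw [show decide (16 < zsq x1 + zsq x2 + zsq x3 + zsq x4) = false from decide_eq_false (by omega), cond_false] at hB
  have hany : tyList.any (zeq (nrm (x1, x2, x3, x4))) = true :=
    List.any_eq_true.mpr ⟨_, hty, zeq_iff.mpr rfl⟩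
  simp only [leafOK, hany, cond_true, List.any_eq_true] at hB
  obtain ⟨r, -, hr⟩ := hB
  simp only [recOK, Bool.and_eq_true, zeq_iff, qeq_iff, decide_eq_true_eq] at hr
  obtain ⟨⟨⟨⟨⟨⟨⟨⟨-, -⟩, hnt⟩, ht⟩, hp⟩, hq⟩, hu⟩, hrp⟩, hqm⟩ := hr
  refine ⟨_, ht, r / 65536 % 16, Nat.mod_lt _ (by norm_num), r / 1048576 % 16, Nat.mod_lt _ (by norm_num), _,
    List.getElem_mem hp, ?_, hnt, _, hu, _, List.getElem_mem hrp, ?_⟩
  · rw [hq, List.getD_eq_getElem _ _ hp]
  · rw [hqm, List.getD_eq_getElem _ _ hrp]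

theorem nrm_mem_tyAll {q : Q} (hI : inI q = true) (hn : (nrm q).1 ≤ 16) : nrm q ∈ tyAll := by
  by_cases hty : nrm q ∈ tyList
  · have h := type_check.2.1
    simp only [List.all_eq_true, List.any_eq_true, zeq_iff] at h
    obtain ⟨y, hy, e⟩ := h _ hty
    exact e ▸ hy
  obtain ⟨x1, x2, x3, x4⟩ := q
  have hs := nrm_fst (x1, x2, x3, x4)
  simp only at hs
  have n1 := zsq_nonneg x1; have n2 := zsq_nonneg x2; have n3 := zsq_nonneg x3; have n4 := zsq_nonneg x4
  obtain ⟨row, hrow, hz⟩ := mem_zip_exists (m := leafTab) (by rw [box_check.2.1, box_check.2.2.1]) (box_mem (x := x1) (by omega))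
  have hB := scan_all _ hz
  have hlen : row.length = 49 := by
    have := box_check.2.2.2
    rw [List.all_eq_true] at this
    simpa using this row hrow
  obtain ⟨recs, -, hz2⟩ := mem_zip_exists (m := row) (by rw [box_check.2.1, hlen]) (box_mem (x := x2) (by omega))
  simp only [scanB, List.all_eq_true] at hB
  have hB := hB _ hz2
  simp only [inI, Bool.and_eq_true] at hI
  have hc3 : zeven (zsub x3 (zadd (zmul (0, 1) x1) (zmul (1, -1) x2))) = true := by
    have := hI.1
    simp only [zeven, zsub, zadd, zmul, Bool.and_eq_true, beq_iff_eq] at *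
    omega
  have hc4 : zeven (zsub x4 (zadd (zmul (1, -1) x1) (zmul (0, 1) x2))) = true := by
    have := hI.2
    simp only [zeven, zsub, zadd, zmul, Bool.and_eq_true, beq_iff_eq] at *
    omega
  rw [show decide (16 < zsq x1 + zsq x2) = false from decide_eq_false (by omega), cond_false, List.all_eq_true] at hB
  have hB := hB _ (mem_parity (d := x3) (by omega) hc3)
  rw [show decide (16 < zsq x1 + zsq x2 + zsq x3) = false from decide_eq_false (by omega), cond_false] at hB
  simp only [scanD, List.all_eq_true] at hB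
  have hB := hB _ (mem_parity (d := x4) (by omega) hc4)
  rw [show decide (16 < zsq x1 + zsq x2 + zsq x3 + zsq x4) = false from decide_eq_false (by omega), cond_false] at hB
  have hany : tyList.any (zeq (nrm (x1, x2, x3, x4))) = false := by
    rw [Bool.eq_false_iff, ne_eq, List.any_eq_true]
    rintro ⟨y, hy, e⟩
    exact hty (zeq_iff.mp e ▸ hy)
  simp only [leafOK, hany, cond_false, List.any_eq_true, zeq_iff] at hB
  obtain ⟨y, hy, e⟩ := hB
  exact e ▸ hy

theorem types_of_sum {p q r : Q} (hp : inI p = true) (hq : inI q = true) (hr : inI r = true)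
    (h : zadd (zadd (nrm p) (nrm q)) (nrm r) = (16, 0)) :
    ((nrm p).1 ≤ 16 ∧ nrm p ∈ tyList) ∧ ((nrm q).1 ≤ 16 ∧ nrm q ∈ tyList) ∧ ((nrm r).1 ≤ 16 ∧ nrm r ∈ tyList) := by
  have h1 := congrArg Prod.fst h
  simp only [zadd] at h1
  have nn : ∀ s : Q, 0 ≤ (nrm s).1 := fun s => by
    rw [nrm_fst]; linarith [zsq_nonneg s.1, zsq_nonneg s.2.1, zsq_nonneg s.2.2.1, zsq_nonneg s.2.2.2]
  have bp : (nrm p).1 ≤ 16 := by linarith [nn q, nn r]
  have bq : (nrm q).1 ≤ 16 := by linarith [nn p, nn r]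
  have br : (nrm r).1 ≤ 16 := by linarith [nn p, nn q]
  have hc := type_check.1
  simp only [List.all_eq_true] at hc
  have key : ∀ x y z : ZT, x ∈ tyAll → y ∈ tyAll → z ∈ tyAll → zadd (zadd x y) z = (16, 0) →
      x ∈ tyList ∧ y ∈ tyList := by
    intro x y z hx hy hz e
    have hzz : zsub (16, 0) (zadd x y) = z := by
      have e1 := congrArg Prod.fst e
      have e2 := congrArg Prod.snd e
      simp only [zadd] at e1 e2
      simp only [zsub, zadd]
      exact Prod.ext (by simp only; omega) (by simp only; omega)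
    have hyy := hc x hx y hy
    have hany : tyAll.any (zeq (zsub (16, 0) (zadd x y))) = true :=
      List.any_eq_true.mpr ⟨z, hz, zeq_iff.mpr hzz⟩
    simp only [hany, cond_true, Bool.and_eq_true, List.any_eq_true, zeq_iff] at hyy
    obtain ⟨⟨a, ha, ea⟩, b, hb, eb⟩ := hyy
    exact ⟨ea ▸ ha, eb ▸ hb⟩
  have ap := nrm_mem_tyAll hp bp; have aq := nrm_mem_tyAll hq bq; have ar := nrm_mem_tyAll hr br
  obtain ⟨tp, tq⟩ := key _ _ _ ap aq ar h
  have h' : zadd (zadd (nrm p) (nrm r)) (nrm q) = (16, 0) := by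
    rw [← h]; simp only [zadd]; exact Prod.ext (by simp only; omega) (by simp only; omega)
  obtain ⟨-, tr⟩ := key _ _ _ ap ar aq h'
  exact ⟨⟨bp, tp⟩, ⟨bq, tq⟩, ⟨br, tr⟩⟩

theorem tyAt_injective {i j : ℕ} (hi : i < 9) (hj : j < 9) (h : tyAt i = tyAt j) : i = j := by
  have hc := type_check.2.2.2.2.1
  simp only [List.all_eq_true, List.mem_range, Bool.or_eq_true, beq_iff_eq, Bool.not_eq_true'] at hc
  rcases hc i hi j hj with e | e
  · exact e
  · rw [h, zeq_iff.mpr rfl] at e; simp at e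

theorem classA_mem {c t a b : ℕ} (ht : t < 9) (ha : a < 16) (hb : b < 16) (h : c ∈ smallAt t a b) :
    inI (deco c) = true ∧ qev (deco c) - qev (cA a) ∈ leftIdeal icoH ∧
      qev (deco c) - qev (cB b) ∈ leftIdeal (star icoH) := by
  have hs := small_check.1
  simp only [List.all_eq_true, List.mem_range, Bool.and_eq_true] at hs
  obtain ⟨⟨h1, h2⟩, h3⟩ := hs t ht a ha b hb c h
  have hc := class_check
  simp only [List.all_eq_true, List.mem_range, Bool.and_eq_true] at hc
  refine ⟨h1, ?_, ?_⟩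
  · rw [← qev_qsub]; exact (leftIdeal_h (inI_sub h1 (hc a ha).1.1)).mpr h2
  · rw [← qev_qsub]; exact (leftIdeal_hbar (inI_sub h1 (hc b hb).1.2)).mpr h3

theorem classA_unique {i j : ℕ} (hi : i < 16) (hj : j < 16) (h : qev (cA i) - qev (cA j) ∈ leftIdeal icoH) : i = j := by
  have hc := class_check
  simp only [List.all_eq_true, List.mem_range, Bool.and_eq_true, Bool.or_eq_true, beq_iff_eq, Bool.not_eq_true'] at hc
  rw [← qev_qsub, leftIdeal_h (inI_sub (hc i hi).1.1 (hc j hj).1.1)] at h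
  rcases (hc i hi).2 j hj with e | e
  · exact e
  · rw [h] at e; simp at e

/-- the `k`-th line -/
def lineAt (k : ℕ) : V := decV (lineList.getD k (0, 0, 0))

/-- left multiplication -/
def smulV (u : Q) (v : V) : V := (qmul u v.1, qmul u v.2.1, qmul u v.2.2)

theorem vev_smulV {u : Q} {v : V} (hu : inI u = true) (hv : inI v.1 = true ∧ inI v.2.1 = true ∧ inI v.2.2 = true) :
    vev (smulV u v) = fun t => qev u * vev v t := by
  funext t
  fin_cases t <;> simp [vev, smulV, qev_qmul, (inI_qmul hu hv.1).1, (inI_qmul hu hv.2.1).1, (inI_qmul hu hv.2.2).1]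

theorem unit_data {i : ℕ} (hi : i < 120) : inI (unitAt i) = true ∧ unitInv.getD i 0 < 120 ∧
    qev (unitAt (unitInv.getD i 0)) * qev (unitAt i) = 1 ∧ star (qev (unitAt i)) * qev (unitAt i) = 1 ∧
      qev (unitAt (unitInv.getD i 0)) = star (qev (unitAt i)) := by
  have h := unit_check.2
  simp only [List.all_eq_true, List.mem_range, Bool.and_eq_true, decide_eq_true_eq, qeq_iff] at h
  obtain ⟨⟨⟨h1, h2⟩, h3⟩, h4⟩ := h i hi
  have h5 : inI (unitAt (unitInv.getD i 0)) = true := h4 ▸ inI_qconj h1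
  have e : qev (unitAt (unitInv.getD i 0)) * qev (unitAt i) = 1 := by
    rw [← qev_qmul (inI_qmul h5 h1).1, h3, qev_one]
  have e2 : qev (unitAt (unitInv.getD i 0)) = star (qev (unitAt i)) := by rw [h4, qev_qconj]
  exact ⟨h1, h2, e, e2 ▸ e, e2⟩

theorem coords_of_inLam {v : V} (h : inLam v = true) : inI v.1 = true ∧ inI v.2.1 = true ∧ inI v.2.2 = true := by
  simp only [inLam, Bool.and_eq_true] at h
  exact ⟨h.1.1.1.1.1, h.1.1.1.1.2, h.1.1.1.2⟩

theorem smul_mem_icoLeech {u : ℍ[ℝ]} (hu : u ∈ icosians) {f : Fin 3 → ℍ[ℝ]} (hf : f ∈ icoLeech) :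
    (fun t => u * f t) ∈ icoLeech := by
  obtain ⟨hI, h1, h2, h3⟩ := hf
  refine ⟨fun t => mul_mem hu (hI t), ?_, ?_, ?_⟩
  · rw [← mul_sub]; exact leftIdeal_smul hu h1
  · rw [← mul_sub]; exact leftIdeal_smul hu h2
  · rw [← mul_add, ← mul_add]; exact leftIdeal_smul hu h3

theorem qip_smul_unit {u : ℍ[ℝ]} (hu : u * star u = 1) {f : Fin 3 → ℍ[ℝ]} (hf : qip f f = 4) :
    qip (fun t => u * f t) (fun t => u * f t) = 4 := by
  have : qip (fun t => u * f t) (fun t => u * f t) = u * qip f f * star u := by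
    simp only [qip, Finset.mul_sum, Finset.sum_mul, star_mul, mul_assoc]
  rw [this, hf, four_eq, ← (Quaternion.coe_commutes 4 u), mul_assoc, hu,
    mul_one]

/-- a normalised minimal vector is one of the lines -/
theorem isLine_of_normalised {p q r : Q} (hv : inLam (p, q, r) = true)
    (hn : zadd (zadd (nrm p) (nrm q)) (nrm r) = (16, 0))
    (h0 : p ≠ qzero → ∃ t < 9, ∃ c ∈ repsAt t, deco c = p ∧ nrm p = tyAt t)
    (h1 : p = qzero → q ≠ qzero → ∃ t < 9, ∃ c ∈ repsAt t, deco c = q ∧ nrm q = tyAt t)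
    (h2 : p = qzero → q = qzero → ∃ t < 9, ∃ c ∈ repsAt t, deco c = r ∧ nrm r = tyAt t) :
    isLine (p, q, r) = true := by
  obtain ⟨hp, hq, hr⟩ := coords_of_inLam hv
  obtain ⟨-, h12, h23, h123⟩ := mem_icoLeech_iff.mpr ⟨_, hv, rfl⟩
  simp only [vev, Matrix.cons_val_zero, Matrix.cons_val_one, Matrix.cons_val_two, Matrix.tail_cons,
    Matrix.head_cons] at h12 h23 h123
  obtain ⟨⟨bp, tp⟩, ⟨bq, tq⟩, ⟨br, tr⟩⟩ := types_of_sum hp hq hr hn
  have hz : nrm qzero = tyAt 0 := by rw [type_check.2.2.2.1]; decide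
  obtain ⟨t0, ht0, c0, hc0, e0, n0⟩ : ∃ t < 9, ∃ c ∈ repsAt t, deco c = p ∧ nrm p = tyAt t := by
    by_cases h : p = qzero
    · exact ⟨0, by norm_num, 0, by rw [type_check.2.2.2.2.2.1]; simp, by rw [type_check.2.2.2.2.2.2, h],
        by rw [h, hz]⟩
    · exact h0 h
  obtain ⟨t1, ht1, a1, ha1, b1, hb1, c1, hc1, e1, n1, -⟩ := small_data hq bq tq
  obtain ⟨t2, ht2, a2, ha2, b2, hb2, c2, hc2, e2, n2, -⟩ := small_data hr br tr
  obtain ⟨-, a1m, -⟩ := classA_mem ht1 ha1 hb1 hc1
  obtain ⟨-, a2m, b2m⟩ := classA_mem ht2 ha2 hb2 hc2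
  rw [e1] at a1m; rw [e2] at a2m b2m
  have eA : a2 = a1 := classA_unique ha2 ha1 (by
    have := leftIdeal_sub (leftIdeal_sub a1m a2m) h23
    convert this using 1; abel)
  subst eA
  have hcl := class_check
  simp only [List.all_eq_true, List.mem_range, Bool.and_eq_true] at hcl
  have hA : inLeft qhb (qsub (deco c0) (cA a2)) = true := by
    rw [← leftIdeal_h (inI_sub (e0 ▸ hp) (hcl a2 ha2).1.1), qev_qsub, e0]
    have := leftIdeal_sub h12 (leftIdeal_neg a1m)
    convert this using 1; abel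
  have hB : inLeft qh (qadd (qadd (deco c0) (deco c1)) (cB b2)) = true := by
    rw [← leftIdeal_hbar (inI_add (inI_add (e0 ▸ hp) (e1 ▸ hq)) (hcl b2 hb2).1.2), qev_qadd, qev_qadd, e0, e1]
    have := leftIdeal_sub h123 b2m
    convert this using 1; abel
  have hc := triple_check
  simp only [List.all_eq_true, List.mem_range] at hc
  have hc := hc t0 ht0 c0 hc0 a2 ha2
  rw [hA, cond_true] at hc
  simp only [List.all_eq_true, List.mem_range] at hc
  have hc := hc t1 ht1 t2 ht2
  have hsum : zeq (zadd (zadd (tyAt t0) (tyAt t1)) (tyAt t2)) (16, 0) = true := by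
    rw [← n0, ← n1, ← n2]; exact zeq_iff.mpr hn
  rw [hsum, cond_true] at hc
  simp only [pairCheck, List.all_eq_true, List.mem_range] at hc
  have hc := hc b1 hb1 c1 hc1
  have p0 : t0 = 0 → p = qzero := fun e => by
    rw [e, type_check.2.2.2.2.2.1, List.mem_singleton] at hc0
    rw [← e0, hc0, type_check.2.2.2.2.2.2]
  have hskip1 : (t0 == 0 && !((repsAt t1).any fun c => qeq (deco c) (deco c1))) = false := by
    by_cases ht : t0 = 0
    · simp only [ht, beq_self_eq_true, Bool.true_and, Bool.not_eq_false', List.any_eq_true, qeq_iff]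
      by_cases hq0 : q = qzero
      · have : t1 = 0 := tyAt_injective ht1 (by norm_num) (by rw [← n1, hq0, hz])
        exact ⟨0, by rw [this, type_check.2.2.2.2.2.1]; simp, by rw [type_check.2.2.2.2.2.2, e1, hq0]⟩
      · obtain ⟨t, ht', c, hcm, ec, nc⟩ := h1 (p0 ht) hq0
        have : t = t1 := tyAt_injective ht' ht1 (by rw [← nc, n1])
        exact ⟨c, this ▸ hcm, by rw [ec, e1]⟩
    · simp [ht]
  rw [hskip1, cond_false] at hc
  simp only [List.all_eq_true, List.mem_range] at hc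
  have hc := hc b2 hb2
  rw [hB, cond_true] at hc
  simp only [List.all_eq_true] at hc
  have hc := hc c2 hc2
  have hskip2 : (t0 == 0 && t1 == 0 && !((repsAt t2).any fun c => qeq (deco c) (deco c2))) = false := by
    by_cases ht : t0 = 0
    · by_cases ht' : t1 = 0
      · simp only [ht, ht', beq_self_eq_true, Bool.true_and, Bool.not_eq_false', List.any_eq_true, qeq_iff]
        have hq0 : q = qzero := by
          by_contra hq0
          obtain ⟨t, ht1', c, hcm, ec, nc⟩ := h1 (p0 ht) hq0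
          have : t = 0 := tyAt_injective ht1' (by norm_num) (by rw [← nc, n1, ht'])
          rw [this, type_check.2.2.2.2.2.1, List.mem_singleton] at hcm
          exact hq0 (by rw [← ec, hcm, type_check.2.2.2.2.2.2])
        obtain ⟨t, ht2', c, hcm, ec, nc⟩ := h2 (p0 ht) hq0
        have : t = t2 := tyAt_injective ht2' ht2 (by rw [← nc, n2])
        exact ⟨c, this ▸ hcm, by rw [ec, e2]⟩
      · simp [ht']
    · simp [ht]
  rw [hskip2, cond_false, e0, e1, e2] at hc
  exact hc

end CfsgLib.Recog.Icosian
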